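import Cfsg.Agent.Lib.SzModule.Irreducible

/-!
# No equivariant bilinear maps between the fixed-point-free modules of a Suzuki group

`bilinear_zero`: a bilinear map between finite modules in characteristic two on which elements of
odd prime order act without fixed points, compatible with the Suzuki group, is zero.
-/

set_option autoImplicit false
set_option linter.unusedSectionVars false
set_option linter.style.haveILetI false

namespace Cfsg.Agent.Lib.SzModule

open Cfsg.Agent.Lib.LieTwisted.Suzuki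
open scoped Classical

variable {F : Type*} [Field F] [Fintype F] {m : ℕ} (h : IsSzField F m)

/-- A basis vector of the natural module. -/
noncomputable def bv (F : Type*) [Field F] (a : Fin 4) : TV F 1 := Pi.single (fun _ => a) 1

lemma tv_ext {ξ η : TV F 1} (hs : ∀ a : Fin 4, ξ (fun _ => a) = η (fun _ => a)) : ξ = η := by
  funext k
  rw [show k = fun _ => k 0 from funext fun i => by rw [Subsingleton.elim i 0]]
  exact hs _

lemma bv_apply (a b : Fin 4) : bv F a (fun _ => b) = if b = a then 1 else 0 := by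
  by_cases hab : b = a
  · subst hab; simp [bv]
  · rw [if_neg hab, bv, Pi.single_eq_of_ne]
    exact fun hh => hab (congrFun hh 0)

lemma tv_sum (ξ : TV F 1) : ξ = ∑ a, ξ (fun _ => a) • bv F a :=
  tv_ext fun b => by simp [Finset.sum_apply, bv_apply]

lemma tRep_bv (i : ℕ) (g : Cfsg.Sz F m) (a : Fin 4) :
    tRep h (fun _ : Fin 1 => i) g (bv F a) = ∑ b, mat g b a ^ 2 ^ i • bv F b :=
  tv_ext fun b => by
    rw [Finset.sum_apply, bv, tRep_single]
    simp [bv_apply]

lemma bilin_eq_zero {W : Type*} [AddCommGroup W] [Module F W] (c : TV F 1 →ₗ[F] TV F 1 →ₗ[F] W)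
    (hc : ∀ a b, c (bv F a) (bv F b) = 0) : c = 0 := by
  refine LinearMap.ext fun ξ => LinearMap.ext fun η => ?_
  rw [tv_sum ξ, tv_sum η]
  simp [hc]

include h in
/-- Two different twists. -/
theorem natural_zero_of_ne (hm : 1 ≤ m) {i j k : ℕ} (hi : i < 2 * m + 1) (hj : j < 2 * m + 1)
    (hij : i ≠ j) (c : TV F 1 →ₗ[F] TV F 1 →ₗ[F] TV F 1)
    (hc : ∀ g x y, c (tRep h (fun _ => i) g x) (tRep h (fun _ => j) g y) =
      tRep h (fun _ => k) g (c x y)) : c = 0 := by
  let e : Fin 2 → ℕ := ![i, j]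
  let ψ : TV F 2 →ₗ[F] TV F 1 :=
    ∑ l : Fin 2 → Fin 4, (LinearMap.proj l : TV F 2 →ₗ[F] F).smulRight (c (bv F (l 0)) (bv F (l 1)))
  have hψ : ∀ ξ, ψ ξ = ∑ l : Fin 2 → Fin 4, ξ l • c (bv F (l 0)) (bv F (l 1)) := fun ξ => by
    simp [ψ]
  have hψs : ∀ l : Fin 2 → Fin 4, ψ (Pi.single l 1) = c (bv F (l 0)) (bv F (l 1)) := by
    intro l
    rw [hψ, Finset.sum_eq_single l]
    · simp
    · intro l' _ hl'; simp [Pi.single_eq_of_ne hl']
    · simp
  have hbasis : ∀ g (l : Fin 2 → Fin 4),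
      ψ (tRep h e g (Pi.single l 1)) = tRep h (fun _ => k) g (ψ (Pi.single l 1)) := by
    intro g l
    rw [hψs, ← hc, tRep_bv, tRep_bv, hψ]
    simp only [tRep_single, Fin.prod_univ_two, map_sum, map_smul, LinearMap.sum_apply,
      LinearMap.smul_apply, Finset.smul_sum, smul_smul]
    rw [← Equiv.sum_comp (piFinTwoEquiv fun _ => Fin 4).symm, Fintype.sum_prod_type, Finset.sum_comm]
    refine Finset.sum_congr rfl fun y _ => Finset.sum_congr rfl fun x _ => ?_
    simp [e, mul_comm]
  have hequiv : ∀ g ξ, ψ (tRep h e g ξ) = tRep h (fun _ => k) g (ψ ξ) := by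
    intro g ξ
    have hξ : ξ = ∑ l, ξ l • (Pi.single l 1 : TV F 2) := by
      funext l'; simp [Finset.sum_apply, Pi.single_apply]
    rw [hξ]
    simp only [map_sum, map_smul, hbasis]
  have he : Function.Injective e := by
    intro x y hxy
    fin_cases x <;> fin_cases y <;> simp [e] at hxy ⊢ <;> omega
  have hlt : ∀ x, e x < 2 * m + 1 := by
    intro x; fin_cases x <;> simp [e] <;> omega
  have hker : LinearMap.ker ψ = ⊤ := by
    refine tRep_irreducible h e (by omega) he hlt _ (fun g ξ hξ => ?_) ?_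
    · rw [LinearMap.mem_ker] at hξ ⊢
      rw [hequiv, hξ, map_zero]
    · refine LinearMap.ker_ne_bot_of_finrank_lt ?_
      simp [Module.finrank_fintype_fun_eq_card]
  refine bilin_eq_zero c fun a b => ?_
  have := hψs ![a, b]
  rw [LinearMap.mem_ker.1 (hker.ge Submodule.mem_top)] at this
  simpa using this.symm

lemma pair_smul_left {r : ℕ} (t : F) (x y : TV F r) : pair (t • x) y = t * pair x y := by
  simp [pair, Finset.mul_sum, mul_assoc]

lemma pair_add_left {r : ℕ} (x x' y : TV F r) : pair (x + x') y = pair x y + pair x' y := by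
  simp [pair, Finset.sum_add_distrib, add_mul]

lemma pair_smul_right {r : ℕ} (t : F) (x y : TV F r) : pair x (t • y) = t * pair x y := by
  simp [pair, Finset.mul_sum, mul_left_comm]

lemma pair_add_right {r : ℕ} (x y y' : TV F r) : pair x (y + y') = pair x y + pair x y' := by
  simp [pair, Finset.sum_add_distrib, mul_add]

/-- The bilinear map with the last two slots exchanged. -/
noncomputable def swapSlot (c : TV F 1 →ₗ[F] TV F 1 →ₗ[F] TV F 1) :
    TV F 1 →ₗ[F] TV F 1 →ₗ[F] TV F 1 :=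
  LinearMap.mk₂ F (fun x z p => pair z (c x (Pi.single (fun i => Fin.rev (p i)) 1)))
    (fun x x' z => funext fun p => by simp [pair_add_right])
    (fun t x z => funext fun p => by simp [pair_smul_right])
    (fun x z z' => funext fun p => by simp [pair_add_left])
    (fun t x z => funext fun p => by simp [pair_smul_left])

lemma pair_swapSlot (c : TV F 1 →ₗ[F] TV F 1 →ₗ[F] TV F 1) (x z y : TV F 1) :
    pair (swapSlot c x z) y = pair z (c x y) := by
  have hy : y = ∑ a, y (fun _ => a) • bv F a := tv_sum y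
  have hz : ∀ (x w : TV F 1) (s : Finset (Fin 4)) (f : Fin 4 → TV F 1),
      pair w (∑ a ∈ s, f a) = ∑ a ∈ s, pair w (f a) := by
    intro x w s f
    simp [pair, Finset.sum_apply, Finset.mul_sum]
    exact Finset.sum_comm
  rw [hy, map_sum, hz x, hz x]
  refine Finset.sum_congr rfl fun a _ => ?_
  rw [map_smul, pair_smul_right, pair_smul_right, bv, pair_single]
  congr 1
  simp [swapSlot]

set_option maxHeartbeats 1600000 in
include h in
/-- All three twists equal. -/
theorem natural_zero_same (hm : 1 ≤ m) {i : ℕ}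
    (c : TV F 1 →ₗ[F] TV F 1 →ₗ[F] TV F 1)
    (hc : ∀ g x y, c (tRep h (fun _ => i) g x) (tRep h (fun _ => i) g y) =
      tRep h (fun _ => i) g (c x y)) : c = 0 := by
  obtain ⟨u, hu⟩ := IsCyclic.exists_generator (α := Fˣ)
  have hord : orderOf u = 2 ^ (2 * m + 1) - 1 := by
    rw [orderOf_eq_card_of_forall_mem_zpowers hu, Nat.card_eq_fintype_card, Fintype.card_units, h.card]
  set ε : Fin 4 → ℤ := ![2 ^ (m + 1) + 1, 1, -1, -(2 ^ (m + 1) + 1)] with hε
  have hd : ∀ a, tRep h (fun _ : Fin 1 => i) (dS h u) (bv F a) =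
      (((u ^ ε a : Fˣ) : F) ^ 2 ^ i) • bv F a := by
    intro a
    rw [tRep_bv, Finset.sum_eq_single a]
    · congr 2
      rw [h.mat_dS, dgMat, Matrix.diagonal_apply_eq]
      have hs : sg m (u : F) = ((u ^ (2 ^ (m + 1) : ℤ) : Fˣ) : F) := by
        rw [show ((2 : ℤ) ^ (m + 1)) = ((2 ^ (m + 1) : ℕ) : ℤ) by push_cast; rfl, zpow_natCast,
          Units.val_pow_eq_pow_val]
        rfl
      fin_cases a <;> simp [hε, zpow_add, zpow_neg, hs, mul_comm]
    · intro b _ hb
      rw [h.mat_dS, dgMat, Matrix.diagonal_apply_ne _ hb, zero_pow (by positivity), zero_smul]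
    · simp
  have key : ∀ a b q, c (bv F a) (bv F b) (fun _ => q) ≠ 0 →
      ((2 ^ (2 * m + 1) - 1 : ℕ) : ℤ) ∣ ε a + ε b - ε q := by
    intro a b q hne
    have h1 := hc (dS h u) (bv F a) (bv F b)
    rw [hd, hd, tv_sum (c (bv F a) (bv F b))] at h1
    simp only [map_smul, LinearMap.smul_apply, map_sum, hd] at h1
    have h2 := congrFun h1 (fun _ => q)
    simp only [Pi.smul_apply, smul_eq_mul, Finset.sum_apply, bv_apply, mul_ite, mul_one, mul_zero,
      Finset.sum_ite_eq, Finset.mem_univ, if_true] at h2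
    have h3 : (((u ^ (ε a + ε b) : Fˣ) : F)) ^ 2 ^ i = ((u ^ ε q : Fˣ) : F) ^ 2 ^ i := by
      rw [zpow_add, Units.val_mul, mul_pow]
      refine mul_right_cancel₀ hne ?_
      linear_combination h2
    haveI := h.charTwo
    haveI : Fact (Nat.Prime 2) := ⟨Nat.prime_two⟩
    have h4 : (u ^ (ε a + ε b) : Fˣ) = u ^ ε q :=
      Units.ext (iterateFrobenius_inj F 2 i (by rw [iterateFrobenius_def, iterateFrobenius_def]; exact h3))
    rw [← hord, orderOf_dvd_iff_zpow_eq_one, zpow_sub, h4, mul_inv_cancel]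
  have hw : ∀ a b q, c (bv F (Fin.rev a)) (bv F (Fin.rev b)) (fun _ => Fin.rev q) =
      c (bv F a) (bv F b) (fun _ => q) := by
    intro a b q
    have hwb : ∀ a : Fin 4, tRep h (fun _ : Fin 1 => i) (wS h) (bv F a) = bv F (Fin.rev a) := by
      intro a
      rw [tRep_bv, Finset.sum_eq_single (Fin.rev a)]
      · rw [h.mat_wS]; fin_cases a <;> simp [wMat, Fin.rev]
      · intro b _ hb
        rw [h.mat_wS]
        fin_cases a <;> fin_cases b <;> simp_all [wMat, Fin.rev]
      · simp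
    have h1 := hc (wS h) (bv F a) (bv F b)
    rw [hwb, hwb, tv_sum (c (bv F a) (bv F b))] at h1
    simp only [map_sum, map_smul, hwb] at h1
    rw [h1]
    simp [Finset.sum_apply, bv_apply]
  have hz : ∀ a : Fin 4, tRep h (fun _ : Fin 1 => i) (uS h 0 1) (bv F a) =
      bv F a + (![0, 0, bv F 0, bv F 0 + bv F 1] : Fin 4 → TV F 1) a := by
    intro a
    rw [tRep_bv, Fin.sum_univ_four, h.mat_uS]
    fin_cases a <;> simp [utMat, zfun, sg_zero, sg_one] <;> abel
  have hA : ∀ a b : Fin 4, a ≤ 1 → b ≤ 1 → ∀ q : Fin 4, 2 ≤ q →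
      c (bv F a) (bv F b) (fun _ => q) = 0 := by
    intro a b ha hb q hq
    have h1 := hc (uS h 0 1) (bv F a) (bv F b)
    have hfix : ∀ x : Fin 4, x ≤ 1 → tRep h (fun _ : Fin 1 => i) (uS h 0 1) (bv F x) = bv F x := by
      intro x hx
      rw [hz]
      fin_cases x <;> simp at hx ⊢
    rw [hfix a ha, hfix b hb] at h1
    set ξ := c (bv F a) (bv F b) with hξ
    rw [tv_sum ξ] at h1
    simp only [map_add, map_smul, hz, Fin.sum_univ_four, smul_add] at h1
    have h2 := congrFun h1 (fun _ => 1)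
    have h3 := congrFun h1 (fun _ => 0)
    simp [bv_apply] at h2 h3
    fin_cases q <;> simp at hq ⊢
    · linear_combination -h3 - h2
    · exact h2
  refine bilin_eq_zero c fun a b => tv_ext fun q => ?_
  by_contra hne
  have hk := key a b q hne
  by_cases hm2 : 2 ≤ m
  · set s := (2 : ℤ) ^ (m + 1) with hs
    have hs4 : 8 ≤ s := le_trans (by norm_num)
      (pow_le_pow_right₀ (by norm_num : (1 : ℤ) ≤ 2) (show 3 ≤ m + 1 by omega))
    have hq : ((2 ^ (2 * m + 1) - 1 : ℕ) : ℤ) = 2 ^ (2 * m + 1) - 1 := by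
      rw [Nat.cast_sub Nat.one_le_two_pow]; push_cast; rfl
    rw [hq] at hk
    have h2 : (2 : ℤ) ^ (2 * m + 1) * 2 = s * s := by
      rw [hs, ← pow_succ, ← pow_add]; congr 1; omega
    have hev : (2 : ℤ) ∣ s := dvd_pow_self 2 (by omega)
    obtain ⟨d, hd'⟩ := hk
    obtain ⟨s', hs'⟩ := hev
    have hbound : 3 * (s + 1) < 2 ^ (2 * m + 1) - 1 := by nlinarith
    have hεb : ∀ x, -(s + 1) ≤ ε x ∧ ε x ≤ s + 1 ∧ ∃ t, ε x = 2 * t + 1 := by
      intro x
      fin_cases x <;> refine ⟨?_, ?_, ?_⟩ <;> simp [hε] <;> try omega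
      · exact ⟨s', by omega⟩
      · exact ⟨-1, by omega⟩
      · exact ⟨-s' - 1, by omega⟩
    obtain ⟨la, ua, ta, hta⟩ := hεb a
    obtain ⟨lb, ub, tb, htb⟩ := hεb b
    obtain ⟨lq, uq, tq, htq⟩ := hεb q
    rcases lt_trichotomy d 0 with hdn | hdz | hdp
    · nlinarith
    · rw [hdz, mul_zero] at hd'; omega
    · nlinarith
  · obtain rfl : m = 1 := by omega
    have hlist : ∀ a b q : Fin 4,
        (7 : ℤ) ∣ (![5, 1, -1, -5] : Fin 4 → ℤ) a + (![5, 1, -1, -5] : Fin 4 → ℤ) b -
          (![5, 1, -1, -5] : Fin 4 → ℤ) q →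
        (a ≤ 1 ∧ b ≤ 1 ∧ 2 ≤ q) ∨ (2 ≤ a ∧ 2 ≤ b ∧ q ≤ 1) := by decide
    rcases hlist a b q (by simpa [hε] using hk) with ⟨ha, hb, hq⟩ | ⟨ha, hb, hq⟩
    · exact hne (hA a b ha hb q hq)
    · refine hne ?_
      rw [← hw]
      refine hA _ _ ?_ ?_ _ ?_ <;> simp only [Fin.le_def, Fin.val_rev] at * <;> omega

include h in
/-- Natural modules. -/
theorem natural_zero (hm : 1 ≤ m) {i j k : ℕ} (hi : i < 2 * m + 1) (hj : j < 2 * m + 1)
    (hk : k < 2 * m + 1) (c : TV F 1 →ₗ[F] TV F 1 →ₗ[F] TV F 1)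
    (hc : ∀ g x y, c (tRep h (fun _ => i) g x) (tRep h (fun _ => j) g y) =
      tRep h (fun _ => k) g (c x y)) : c = 0 := by
  by_cases hij : i = j
  · subst hij
    by_cases hik : i = k
    · subst hik; exact natural_zero_same h hm c hc
    · have hs : swapSlot c = 0 := by
        refine natural_zero_of_ne h hm hi hk hik (k := i) (swapSlot c) fun g x z => ?_
        refine tv_ext fun q => ?_
        set η := bv F (Fin.rev q) with hη
        have hread : ∀ ξ : TV F 1, ξ (fun _ => q) = pair ξ η := fun ξ => by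
          rw [hη, bv, pair_single]; simp
        obtain ⟨y, hy⟩ : ∃ y, tRep h (fun _ => i) g y = η :=
          ⟨tRep h (fun _ => i) g⁻¹ η, by
            rw [← Module.End.mul_apply, ← map_mul, mul_inv_cancel, map_one]; rfl⟩
        refine (hread _).trans (Eq.trans ?_ (hread _).symm)
        rw [← hy, pair_swapSlot, hc, pair_tRep h _ hm, pair_tRep h _ hm, pair_swapSlot]
      refine bilin_eq_zero c fun a b => tv_ext fun q => ?_
      have h1 := pair_swapSlot c (bv F a) (bv F (Fin.rev q)) (bv F b)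
      rw [hs] at h1
      simp only [LinearMap.zero_apply] at h1
      rw [show pair (0 : TV F 1) (bv F b) = 0 by simp [pair]] at h1
      have h2 : pair (bv F (Fin.rev q)) (c (bv F a) (bv F b)) =
          c (bv F a) (bv F b) (fun _ => q) := by
        rw [pair, Finset.sum_eq_single (fun _ => Fin.rev q)]
        · simp [bv]
        · intro l _ hl; simp [bv, Pi.single_eq_of_ne hl]
        · simp
      rw [Pi.zero_apply, ← h2, ← h1]
  · exact natural_zero_of_ne h hm hi hj hij c hc

section Devissage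

variable {V : Type*} [AddCommGroup V] [Module F V] (ρ : Representation F (Cfsg.Sz F m) V)

/-- The restriction to an invariant subspace. -/
def subRep (Y : Submodule F V) (hY : ∀ g, ∀ y ∈ Y, ρ g y ∈ Y) :
    Representation F (Cfsg.Sz F m) Y where
  toFun g := (ρ g).restrict (hY g)
  map_one' := LinearMap.ext fun y => Subtype.ext (by simp)
  map_mul' g g' := LinearMap.ext fun y => Subtype.ext (by simp)

/-- The quotient by an invariant subspace. -/
def quotRep (Y : Submodule F V) (hY : ∀ g, ∀ y ∈ Y, ρ g y ∈ Y) :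
    Representation F (Cfsg.Sz F m) (V ⧸ Y) where
  toFun g := Y.mapQ Y (ρ g) fun y hy => hY g y hy
  map_one' := by ext y; simp
  map_mul' g g' := by ext y; simp

lemma fpf_sub (Y : Submodule F V) (hY : ∀ g, ∀ y ∈ Y, ρ g y ∈ Y)
    (hfpf : Fpf fun g (v : V) => ρ g v) : Fpf fun g (v : Y) => subRep ρ Y hY g v :=
  fun x p hp hp2 hx v hv => Subtype.ext (hfpf x p hp hp2 hx v (congrArg Subtype.val hv))

include h in
lemma fpf_quot (Y : Submodule F V) (hY : ∀ g, ∀ y ∈ Y, ρ g y ∈ Y)
    (hfpf : Fpf fun g (v : V) => ρ g v) : Fpf fun g (v : V ⧸ Y) => quotRep ρ Y hY g v := by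
  intro x p hp hp2 hx v hv
  obtain ⟨y, rfl⟩ := Submodule.mkQ_surjective Y v
  have hstep : ∀ k, quotRep ρ Y hY (x ^ k) (Y.mkQ y) = Y.mkQ y := by
    intro k
    induction k with
    | zero => simp
    | succ k ih => rw [pow_succ, map_mul, Module.End.mul_apply]; exact (congrArg _ hv).trans ih
  have hsum : ∑ k ∈ Finset.range p, ρ (x ^ k) y = 0 := by
    refine hfpf x p hp hp2 hx _ ?_
    show ρ x _ = _
    rw [map_sum]
    have : ∀ k, ρ x (ρ (x ^ k) y) = ρ (x ^ (k + 1)) y := fun k => by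
      rw [pow_succ', map_mul, Module.End.mul_apply]
    simp only [this]
    obtain ⟨p', rfl⟩ : ∃ p', p = p' + 1 := ⟨p - 1, by have := hp.pos; omega⟩
    rw [Finset.sum_range_succ, Finset.sum_range_succ' (fun k => ρ (x ^ k) y) p', ← hx,
      pow_orderOf_eq_one]
    simp
  have h1 := congrArg Y.mkQ hsum
  rw [map_sum, map_zero] at h1
  rw [Finset.sum_congr rfl (fun k _ => show Y.mkQ (ρ (x ^ k) y) = Y.mkQ y from hstep k)] at h1
  rw [Finset.sum_const, Finset.card_range] at h1
  obtain ⟨c, hc⟩ := hp.odd_of_ne_two hp2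
  have h2 : (Y.mkQ y) + Y.mkQ y = 0 := by rw [← two_smul F, h.two0, zero_smul]
  rwa [hc, add_nsmul, one_nsmul, mul_comm, mul_nsmul, two_nsmul, ← nsmul_add, h2, nsmul_zero,
    zero_add] at h1

end Devissage

universe uV uW uX

include h in
/-- No equivariant bilinear maps. -/
theorem bilinear_zero (hm : 1 ≤ m) : ∀ (N : ℕ) {A : Type uV} {B : Type uW} {C : Type uX}
    [AddCommGroup A] [Module F A] [Finite A] [AddCommGroup B] [Module F B] [Finite B]
    [AddCommGroup C] [Module F C] [Finite C]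
    (_ : Module.finrank F A + Module.finrank F B + Module.finrank F C ≤ N)
    (ρA : Representation F (Cfsg.Sz F m) A) (ρB : Representation F (Cfsg.Sz F m) B)
    (ρC : Representation F (Cfsg.Sz F m) C)
    (_ : Fpf fun g (v : A) => ρA g v) (_ : Fpf fun g (v : B) => ρB g v)
    (_ : Fpf fun g (v : C) => ρC g v)
    (c : A →ₗ[F] B →ₗ[F] C) (_ : ∀ g x y, c (ρA g x) (ρB g y) = ρC g (c x y)), c = 0 := by
  intro N
  induction N using Nat.strong_induction_on with
  | _ N IH =>
  intro A B C _ _ _ _ _ _ _ _ _ hN ρA ρB ρC hA hB hC c hc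
  rcases subsingleton_or_nontrivial A with hsA | hntA
  · exact LinearMap.ext fun x => by rw [Subsingleton.elim x 0]; simp
  rcases subsingleton_or_nontrivial B with hsB | hntB
  · exact LinearMap.ext fun x => LinearMap.ext fun y => by rw [Subsingleton.elim y 0]; simp
  rcases subsingleton_or_nontrivial C with hsC | hntC
  · exact LinearMap.ext fun x => LinearMap.ext fun y => Subsingleton.elim _ _
  have hfd : ∀ {W : Type uV} [AddCommGroup W] [Module F W] (Y : Submodule F W) [Finite W],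
      Y ≠ ⊥ → Y ≠ ⊤ → Module.finrank F Y < Module.finrank F W ∧
        Module.finrank F (W ⧸ Y) < Module.finrank F W := fun Y _ h1 h2 => by
    have := Submodule.finrank_quotient_add_finrank Y
    have := Submodule.finrank_lt h2
    have := Submodule.one_le_finrank_iff.2 h1
    omega
  by_cases hiA : ∀ Y : Submodule F A, (∀ g, ∀ y ∈ Y, ρA g y ∈ Y) → Y ≠ ⊥ → Y = ⊤
  swap
  · push Not at hiA
    obtain ⟨Y, hY, hY0, hY1⟩ := hiA
    haveI : Finite (A ⧸ Y) := Finite.of_surjective _ (Submodule.mkQ_surjective Y)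
    obtain ⟨hd1, hd2⟩ := hfd Y hY0 hY1
    have hsub : c.comp Y.subtype = 0 := IH (N - 1) (by omega) (by omega) (subRep ρA Y hY) ρB ρC
      (fpf_sub ρA Y hY hA) hB hC _ (fun g x y => hc g x y)
    let cq : (A ⧸ Y) →ₗ[F] B →ₗ[F] C := Y.liftQ c fun y hy => by
      rw [LinearMap.mem_ker]
      exact LinearMap.congr_fun hsub ⟨y, hy⟩
    have hquot : cq = 0 := IH (N - 1) (by omega) (by omega) (quotRep ρA Y hY) ρB ρC
      (fpf_quot h ρA Y hY hA) hB hC _ (fun g x y => by
        obtain ⟨x, rfl⟩ := Submodule.mkQ_surjective Y x; exact hc g x y)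
    exact LinearMap.ext fun x => LinearMap.congr_fun hquot (Y.mkQ x)
  by_cases hiB : ∀ Y : Submodule F B, (∀ g, ∀ y ∈ Y, ρB g y ∈ Y) → Y ≠ ⊥ → Y = ⊤
  swap
  · push Not at hiB
    obtain ⟨Y, hY, hY0, hY1⟩ := hiB
    haveI : Finite (B ⧸ Y) := Finite.of_surjective _ (Submodule.mkQ_surjective Y)
    have hd2 := Submodule.finrank_quotient_add_finrank Y
    have hd1 := Submodule.finrank_lt hY1
    have hd0 := Submodule.one_le_finrank_iff.2 hY0
    have hsub : c.compl₂ Y.subtype = 0 := IH (N - 1) (by omega) (by omega) ρA (subRep ρB Y hY) ρC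
      hA (fpf_sub ρB Y hY hB) hC _ (fun g x y => hc g x y)
    let cq : A →ₗ[F] (B ⧸ Y) →ₗ[F] C := (Y.liftQ c.flip fun y hy => by
      rw [LinearMap.mem_ker]
      exact LinearMap.ext fun x => LinearMap.congr_fun₂ hsub x ⟨y, hy⟩).flip
    have hquot : cq = 0 := IH (N - 1) (by omega) (by omega) ρA (quotRep ρB Y hY) ρC
      hA (fpf_quot h ρB Y hY hB) hC _ (fun g x y => by
        obtain ⟨y, rfl⟩ := Submodule.mkQ_surjective Y y; exact hc g x y)
    exact LinearMap.ext fun x => LinearMap.ext fun y =>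
      LinearMap.congr_fun₂ hquot x (Y.mkQ y)
  by_cases hiC : ∀ Y : Submodule F C, (∀ g, ∀ y ∈ Y, ρC g y ∈ Y) → Y ≠ ⊥ → Y = ⊤
  swap
  · push Not at hiC
    obtain ⟨Y, hY, hY0, hY1⟩ := hiC
    haveI : Finite (C ⧸ Y) := Finite.of_surjective _ (Submodule.mkQ_surjective Y)
    have hd2 := Submodule.finrank_quotient_add_finrank Y
    have hd1 := Submodule.finrank_lt hY1
    have hd0 := Submodule.one_le_finrank_iff.2 hY0
    have hq : c.compr₂ Y.mkQ = 0 := IH (N - 1) (by omega) (by omega) ρA ρB (quotRep ρC Y hY)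
      hA hB (fpf_quot h ρC Y hY hC) _ (fun g x y => congrArg Y.mkQ (hc g x y))
    have hmem : ∀ x y, c x y ∈ Y := fun x y =>
      (Submodule.Quotient.mk_eq_zero Y).1 (LinearMap.congr_fun₂ hq x y)
    let cY : A →ₗ[F] B →ₗ[F] Y := LinearMap.mk₂ F (fun x y => ⟨c x y, hmem x y⟩)
      (fun _ _ _ => Subtype.ext (by simp)) (fun _ _ _ => Subtype.ext (by simp))
      (fun _ _ _ => Subtype.ext (by simp)) (fun _ _ _ => Subtype.ext (by simp))
    have hsub : cY = 0 := IH (N - 1) (by omega) (by omega) ρA ρB (subRep ρC Y hY)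
      hA hB (fpf_sub ρC Y hY hC) _ (fun g x y => Subtype.ext (hc g x y))
    exact LinearMap.ext fun x => LinearMap.ext fun y =>
      congrArg Subtype.val (LinearMap.congr_fun₂ hsub x y)
  obtain ⟨i, hi, φA, hφA⟩ := exists_equiv_natural h hm ρA hA hiA
  obtain ⟨j, hj, φB, hφB⟩ := exists_equiv_natural h hm ρB hB hiB
  obtain ⟨k, hk, φC, hφC⟩ := exists_equiv_natural h hm ρC hC hiC
  have hz := natural_zero h hm hi hj hk
    ((c.compl₁₂ φA.toLinearMap φB.toLinearMap).compr₂ φC.symm.toLinearMap) fun g x y => by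
      apply φC.injective
      simp [hφA, hφB, hφC, hc]
  refine LinearMap.ext fun x => LinearMap.ext fun y => ?_
  have := LinearMap.congr_fun₂ hz (φA.symm x) (φB.symm y)
  simpa using this

end Cfsg.Agent.Lib.SzModule
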