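import Cfsg.Agent.Lib.SzModule.Lift

/-!
# Normal two-subgroups with a Suzuki quotient

If `N` is a normal `2`-subgroup of a finite group `G` with `G ⧸ N` a Suzuki group, and no element of
odd prime order of `G` commutes with a nontrivial element of `N`, then `N` is elementary abelian
(`elementary_abelian`).
-/

set_option autoImplicit false
set_option linter.unusedSectionVars false
set_option linter.style.haveILetI false

namespace Cfsg.Agent.Lib.SzModule

open Cfsg.Agent.Lib.LieTwisted.Suzuki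
open scoped Classical TensorProduct

variable {F : Type*} [Field F] [Fintype F] {m : ℕ} (h : IsSzField F m)

universe uM

/-- If fixed-point-free modules of exponent four have exponent two, so have those of `2`-power
exponent. -/
theorem two_smul_eq_zero_of_pow_of {S : Type*} [Group S]
    (hfour : ∀ (M : Type uM) [AddCommGroup M] [Finite M], (∀ v : M, 4 • v = 0) →
      ∀ ρ : S →* AddMonoid.End M, (Fpf fun g (v : M) => ρ g v) → ∀ v : M, 2 • v = 0)
    {M : Type uM} [AddCommGroup M] [Finite M]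
    (hM : ∀ y : M, ∃ k : ℕ, 2 ^ k • y = 0) (ρ : S →* AddMonoid.End M)
    (hfpf : Fpf fun g (v : M) => ρ g v) (y : M) : 2 • y = 0 := by
  let Q : AddSubgroup M := (nsmulAddMonoidHom 4 : M →+ M).range
  have hQ : ∀ g, ∀ z ∈ Q, ρ g z ∈ Q := by
    rintro g z ⟨w, rfl⟩
    exact ⟨ρ g w, by simp⟩
  let ρ' : S →* AddMonoid.End (M ⧸ Q) :=
    { toFun := fun g => QuotientAddGroup.map Q Q (ρ g) (fun z hz => hQ g z hz)
      map_one' := AddMonoidHom.ext fun z => by
        induction z using QuotientAddGroup.induction_on with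
        | H z =>
          show ((ρ 1 z : M) : M ⧸ Q) = (z : M ⧸ Q)
          rw [map_one]
          rfl
      map_mul' := fun g g' => AddMonoidHom.ext fun z => by
        induction z using QuotientAddGroup.induction_on with
        | H z =>
          show ((ρ (g * g') z : M) : M ⧸ Q) = ((ρ g (ρ g' z) : M) : M ⧸ Q)
          rw [map_mul]
          rfl }
  have hfpf' : Fpf fun g (v : M ⧸ Q) => ρ' g v := by
    intro x p hp hp2 hx v hv
    induction v using QuotientAddGroup.induction_on with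
    | H z =>
      have hstep : ∀ k, ((ρ (x ^ k) z : M) : M ⧸ Q) = (z : M ⧸ Q) := by
        intro k
        induction k with
        | zero => rw [pow_zero, map_one]; rfl
        | succ k ih =>
          rw [pow_succ', map_mul]
          show ρ' x ((ρ (x ^ k) z : M) : M ⧸ Q) = _
          rw [ih]
          exact hv
      have hsum : ∑ k ∈ Finset.range p, ρ (x ^ k) z = 0 := by
        refine hfpf x p hp hp2 hx _ ?_
        show ρ x _ = _
        rw [map_sum]
        have : ∀ k, ρ x (ρ (x ^ k) z) = ρ (x ^ (k + 1)) z := fun k => by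
          rw [pow_succ', map_mul]; rfl
        simp only [this]
        obtain ⟨p', rfl⟩ : ∃ p', p = p' + 1 := ⟨p - 1, by have := hp.pos; omega⟩
        rw [Finset.sum_range_succ, Finset.sum_range_succ' (fun k => ρ (x ^ k) z) p', ← hx,
          pow_orderOf_eq_one]
        simp
      have h1 : p • (z : M ⧸ Q) = 0 := by
        have := congrArg (QuotientAddGroup.mk' Q) hsum
        rw [map_sum, map_zero, Finset.sum_congr rfl (fun k _ => show QuotientAddGroup.mk' Q
          (ρ (x ^ k) z) = (z : M ⧸ Q) from hstep k), Finset.sum_const, Finset.card_range] at this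
        exact this
      obtain ⟨k, hk⟩ := hM z
      have h2 : 2 ^ k • (z : M ⧸ Q) = 0 := by
        rw [← QuotientAddGroup.mk_nsmul, hk]; rfl
      have h3 : addOrderOf (z : M ⧸ Q) ∣ Nat.gcd p (2 ^ k) :=
        Nat.dvd_gcd (addOrderOf_dvd_of_nsmul_eq_zero h1) (addOrderOf_dvd_of_nsmul_eq_zero h2)
      rw [Nat.Coprime.gcd_eq_one (Nat.Coprime.pow_right k
        ((Nat.coprime_primes hp Nat.prime_two).2 hp2))] at h3
      exact AddMonoid.addOrderOf_eq_one_iff.1 (Nat.dvd_one.1 h3)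
  have h4 : ∀ v : M ⧸ Q, 4 • v = 0 := by
    intro v
    induction v using QuotientAddGroup.induction_on with
    | H z =>
      rw [← QuotientAddGroup.mk_nsmul]
      exact (QuotientAddGroup.eq_zero_iff _).2 ⟨z, rfl⟩
  have hkey : ∀ z : M, ∃ w, 2 • z = 4 • w := by
    intro z
    have := hfour (M ⧸ Q) h4 ρ' hfpf' (z : M ⧸ Q)
    rw [← QuotientAddGroup.mk_nsmul, QuotientAddGroup.eq_zero_iff] at this
    obtain ⟨w, hw⟩ := this
    exact ⟨w, hw.symm⟩
  have hpow : ∀ (k : ℕ) (z : M), ∃ w, 2 • z = 2 ^ k • (2 • w) := by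
    intro k
    induction k with
    | zero => exact fun z => ⟨z, by simp⟩
    | succ k ih =>
      intro z
      obtain ⟨w, hw⟩ := hkey z
      obtain ⟨w', hw'⟩ := ih w
      refine ⟨w', ?_⟩
      rw [hw, show (4 : ℕ) = 2 * 2 from rfl, mul_nsmul, hw', ← mul_nsmul, pow_succ]
  obtain ⟨k, hk⟩ : ∃ k, ∀ z : M, 2 ^ k • z = 0 := by
    haveI := Fintype.ofFinite M
    choose f hf using hM
    refine ⟨Finset.univ.sup f, fun z => ?_⟩
    obtain ⟨d, hd⟩ := Nat.exists_eq_add_of_le (Finset.le_sup (f := f) (Finset.mem_univ z))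
    rw [hd, pow_add, mul_nsmul, hf, nsmul_zero]
  obtain ⟨w, hw⟩ := hpow k y
  rw [hw, hk]

include h in
/-- No exponent four, for any `2`-power exponent. -/
theorem two_smul_eq_zero_of_pow (hm : 1 ≤ m) {M : Type*} [AddCommGroup M] [Finite M]
    (hM : ∀ y : M, ∃ k : ℕ, 2 ^ k • y = 0) (ρ : Cfsg.Sz F m →* AddMonoid.End M)
    (hfpf : Fpf fun g (v : M) => ρ g v) (y : M) : 2 • y = 0 :=
  two_smul_eq_zero_of_pow_of (fun M _ _ h4 ρ' hf => two_smul_eq_zero h hm h4 ρ' hf) hM ρ hfpf y

section LiftRep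

variable [CharP F 2] {W : Type*} [AddCommGroup W] [Module (ZMod 2) W]
  (ρ : Cfsg.Sz F m →* AddMonoid.End W)

/-- Extension of scalars. -/
noncomputable def liftRep :
    letI := ZMod.algebra F 2
    Representation F (Cfsg.Sz F m) (F ⊗[ZMod 2] W) :=
  letI := ZMod.algebra F 2
  { toFun := fun g => LinearMap.baseChange F ((ρ g : W →+ W).toZModLinearMap 2)
    map_one' := by
      rw [map_one]
      refine LinearMap.ext fun z => ?_
      induction z using TensorProduct.induction_on with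
      | zero => simp
      | tmul r w => rfl
      | add u v hu hv => simp [map_add, hu, hv]
    map_mul' := fun g g' => by
      rw [map_mul]
      refine LinearMap.ext fun z => ?_
      induction z using TensorProduct.induction_on with
      | zero => simp
      | tmul r w => rfl
      | add u v hu hv => simp [map_add, hu, hv] }

include h in
lemma fpf_liftRep (hρ : Fpf fun g (v : W) => ρ g v) :
    letI := ZMod.algebra F 2
    Fpf fun g (v : F ⊗[ZMod 2] W) => liftRep ρ g v := by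
  letI := ZMod.algebra F 2
  intro z p hp hp2 hz v hv
  have hz0 : ∀ u : F ⊗[ZMod 2] W, ∑ k ∈ Finset.range p, liftRep ρ (z ^ k) u = 0 := by
    intro u
    induction u using TensorProduct.induction_on with
    | zero => simp
    | tmul r w =>
      have h0 : ∑ k ∈ Finset.range p, ρ (z ^ k) w = 0 := by
        refine hρ z p hp hp2 hz _ ?_
        show ρ z _ = _
        rw [map_sum]
        have : ∀ k, ρ z (ρ (z ^ k) w) = ρ (z ^ (k + 1)) w := fun k => by
          rw [pow_succ', map_mul]; rfl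
        simp only [this]
        obtain ⟨p', rfl⟩ : ∃ p', p = p' + 1 := ⟨p - 1, by have := hp.pos; omega⟩
        rw [Finset.sum_range_succ, Finset.sum_range_succ' (fun k => ρ (z ^ k) w) p', ← hz,
          pow_orderOf_eq_one]
        simp
      have : ∑ k ∈ Finset.range p, liftRep ρ (z ^ k) (r ⊗ₜ[ZMod 2] w) =
          r ⊗ₜ[ZMod 2] (∑ k ∈ Finset.range p, ρ (z ^ k) w) := by
        rw [TensorProduct.tmul_sum]; rfl
      rw [this, h0, TensorProduct.tmul_zero]
    | add u v hu hv => simp only [map_add, Finset.sum_add_distrib, hu, hv, add_zero]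
  have hstep : ∀ k, liftRep ρ (z ^ k) v = v := by
    intro k
    induction k with
    | zero => simp
    | succ k ih => rw [pow_succ, map_mul, Module.End.mul_apply]; exact (congrArg _ hv).trans ih
  have h1 := hz0 v
  rw [Finset.sum_congr rfl (fun k _ => hstep k), Finset.sum_const, Finset.card_range] at h1
  obtain ⟨d, hd⟩ := hp.odd_of_ne_two hp2
  have h2 : v + v = 0 := by rw [← two_smul F, h.two0, zero_smul]
  rwa [hd, add_nsmul, one_nsmul, mul_comm, mul_nsmul, two_nsmul, ← nsmul_add, h2, nsmul_zero,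
    zero_add] at h1

end LiftRep

section Elementary

variable {A B C : Type*} [AddCommGroup A] [AddCommGroup B] [AddCommGroup C]

include h in
/-- No equivariant biadditive maps between elementary abelian groups. -/
theorem biadditive_zero (hm : 1 ≤ m) [Finite A] [Finite B] [Finite C] (hA : ∀ a : A, 2 • a = 0)
    (hB : ∀ a : B, 2 • a = 0) (hC : ∀ a : C, 2 • a = 0) (ρA : Cfsg.Sz F m →* AddMonoid.End A)
    (ρB : Cfsg.Sz F m →* AddMonoid.End B) (ρC : Cfsg.Sz F m →* AddMonoid.End C)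
    (fA : Fpf fun g (v : A) => ρA g v) (fB : Fpf fun g (v : B) => ρB g v)
    (fC : Fpf fun g (v : C) => ρC g v) (c : A →+ B →+ C)
    (hc : ∀ g x y, c (ρA g x) (ρB g y) = ρC g (c x y)) (x : A) (y : B) : c x y = 0 := by
  haveI := h.charTwo
  haveI : Fact (Nat.Prime 2) := ⟨Nat.prime_two⟩
  letI := AddCommGroup.zmodModule hA
  letI := AddCommGroup.zmodModule hB
  letI := AddCommGroup.zmodModule hC
  letI := ZMod.algebra F 2
  haveI : Module.Finite (ZMod 2) A := Module.Finite.of_finite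
  haveI : Module.Finite (ZMod 2) B := Module.Finite.of_finite
  haveI : Module.Finite (ZMod 2) C := Module.Finite.of_finite
  haveI : Finite (F ⊗[ZMod 2] A) := Module.finite_of_finite F
  haveI : Finite (F ⊗[ZMod 2] B) := Module.finite_of_finite F
  haveI : Finite (F ⊗[ZMod 2] C) := Module.finite_of_finite F
  let c2 : A →ₗ[ZMod 2] B →ₗ[ZMod 2] C :=
    (({ toFun := fun a => (c a).toZModLinearMap 2
        map_zero' := by ext; simp
        map_add' := fun a b => by ext; simp } : A →+ (B →ₗ[ZMod 2] C))).toZModLinearMap 2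
  let cF : (F ⊗[ZMod 2] A) →ₗ[F] (F ⊗[ZMod 2] B) →ₗ[F] (F ⊗[ZMod 2] C) :=
    LinearMap.liftBaseChange F ((LinearMap.baseChangeHom (ZMod 2) F B C).comp c2)
  have hcF : ∀ (r s : F) a b, cF (r ⊗ₜ[ZMod 2] a) (s ⊗ₜ[ZMod 2] b) = (r * s) ⊗ₜ[ZMod 2] c a b := by
    intro r s a b
    simp [cF, c2, TensorProduct.smul_tmul']
  have hequiv : ∀ g u v, cF (liftRep ρA g u) (liftRep ρB g v) = liftRep ρC g (cF u v) := by
    intro g u v
    induction u using TensorProduct.induction_on with
    | zero => simp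
    | tmul r a =>
      induction v using TensorProduct.induction_on with
      | zero => simp
      | tmul s b =>
        show cF (r ⊗ₜ[ZMod 2] ρA g a) (s ⊗ₜ[ZMod 2] ρB g b) = liftRep ρC g (cF _ _)
        rw [hcF, hcF, hc]
        rfl
      | add u v hu hv => simp only [map_add, hu, hv]
    | add u w hu hw => simp only [map_add, LinearMap.add_apply, hu, hw]
  have hz := bilinear_zero h hm _ le_rfl (liftRep ρA) (liftRep ρB) (liftRep ρC) (fpf_liftRep h ρA fA) (fpf_liftRep h ρB fB)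
    (fpf_liftRep h ρC fC) cF hequiv
  have h1 := hcF 1 1 x y
  rw [hz, LinearMap.zero_apply, LinearMap.zero_apply, mul_one] at h1
  by_contra hne
  obtain ⟨φ, hφ⟩ := not_forall.1 fun hh =>
    hne ((Module.forall_dual_apply_eq_zero_iff (ZMod 2) (c x y)).1 hh)
  have h2 := congrArg (fun t => TensorProduct.rid (ZMod 2) F (LinearMap.lTensor F φ t)) h1
  simp only [map_zero, LinearMap.lTensor_tmul, TensorProduct.rid_tmul] at h2
  exact hφ (FaithfulSMul.algebraMap_injective (ZMod 2) F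
    (by rw [Algebra.algebraMap_eq_smul_one, ← h2, map_zero]))

end Elementary

/-- A subquotient of `N` centralised by `N`. -/
structure Layer {G : Type*} [Group G] (N : Subgroup G) where
  /-- The upper subgroup. -/
  X : Subgroup G
  /-- The lower subgroup. -/
  Y : Subgroup G
  hXN : X ≤ N
  hX : X.Normal
  hY : Y.Normal
  hc : ∀ n ∈ N, ∀ x ∈ X, n * x * n⁻¹ * x⁻¹ ∈ Y

namespace Layer

variable {G : Type*} [Group G] {N : Subgroup G} (L : Layer N)

instance : (L.Y.subgroupOf L.X).Normal := by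
  haveI := L.hY
  exact Subgroup.normal_subgroupOf

instance : CommGroup (L.X ⧸ L.Y.subgroupOf L.X) :=
  { (inferInstance : Group (L.X ⧸ L.Y.subgroupOf L.X)) with
    mul_comm := fun a b => by
      induction a using QuotientGroup.induction_on with
      | H a =>
        induction b using QuotientGroup.induction_on with
        | H b =>
          refine (QuotientGroup.eq_iff_div_mem).2 (Subgroup.mem_subgroupOf.2 ?_)
          have := L.hc a (L.hXN a.2) b b.2
          simpa [div_eq_mul_inv, mul_assoc] using this }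

/-- The layer, additively. -/
def Q : Type _ := Additive (L.X ⧸ L.Y.subgroupOf L.X)

instance : AddCommGroup L.Q :=
  inferInstanceAs (AddCommGroup (Additive (L.X ⧸ L.Y.subgroupOf L.X)))

instance [Finite G] : Finite L.Q :=
  inferInstanceAs (Finite (L.X ⧸ L.Y.subgroupOf L.X))

/-- The class of an element. -/
def cls (x : L.X) : L.Q := Additive.ofMul (x : L.X ⧸ L.Y.subgroupOf L.X)

lemma cls_surjective : Function.Surjective L.cls := fun q => QuotientGroup.mk_surjective q.toMul

lemma cls_eq_zero {x : L.X} : L.cls x = 0 ↔ (x : G) ∈ L.Y :=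
  (QuotientGroup.eq_one_iff _).trans Subgroup.mem_subgroupOf

lemma cls_eq_cls {x y : L.X} : L.cls x = L.cls y ↔ (x : G)⁻¹ * y ∈ L.Y :=
  (Additive.ofMul.injective.eq_iff.trans QuotientGroup.eq).trans Subgroup.mem_subgroupOf

/-- Conjugation on the upper subgroup. -/
def conjX (g : G) : L.X →* L.X where
  toFun x := ⟨g * x * g⁻¹, L.hX.conj_mem _ x.2 g⟩
  map_one' := by ext; simp
  map_mul' x y := by ext; simp [mul_assoc]

/-- Conjugation on the layer. -/
noncomputable def act : G →* AddMonoid.End L.Q where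
  toFun g := MonoidHom.toAdditive (QuotientGroup.map _ _ (L.conjX g) fun x hx =>
    Subgroup.mem_subgroupOf.2 (L.hY.conj_mem _ (Subgroup.mem_subgroupOf.1 hx) g))
  map_one' := AddMonoidHom.ext fun q => by
    obtain ⟨x, rfl⟩ := L.cls_surjective q
    show L.cls (L.conjX 1 x) = L.cls x
    congr 1
    ext
    simp [conjX]
  map_mul' g g' := AddMonoidHom.ext fun q => by
    obtain ⟨x, rfl⟩ := L.cls_surjective q
    show L.cls (L.conjX (g * g') x) = L.cls (L.conjX g (L.conjX g' x))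
    congr 1
    ext
    simp [conjX, mul_assoc]

lemma act_cls (g : G) (x : L.X) : L.act g (L.cls x) = L.cls (L.conjX g x) := rfl

variable [N.Normal] {S : Type*} [Group S]

/-- The action of the quotient. -/
noncomputable def rep (e : G ⧸ N ≃* S) : S →* AddMonoid.End L.Q :=
  (QuotientGroup.lift N L.act fun n hn => AddMonoidHom.ext fun q => by
    obtain ⟨x, rfl⟩ := L.cls_surjective q
    show L.cls (L.conjX n x) = L.cls x
    refine L.cls_eq_cls.2 ?_
    have h1 := L.hY.conj_mem _ (inv_mem (L.hc n hn x x.2)) (x : G)⁻¹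
    simp only [conjX, MonoidHom.coe_mk, OneHom.coe_mk]
    have h2 : (x : G)⁻¹ * (n * x * n⁻¹ * (x : G)⁻¹)⁻¹ * (x : G)⁻¹⁻¹ = (n * x * n⁻¹)⁻¹ * x := by
      group
    rwa [h2] at h1).comp e.symm.toMonoidHom

lemma rep_apply (e : G ⧸ N ≃* S) (g : G) : L.rep e (e (g : G ⧸ N)) = L.act g := by
  simp only [rep, MonoidHom.coe_comp, Function.comp_apply, MulEquiv.coe_toMonoidHom,
    e.symm_apply_apply]
  rfl

lemma two_pow (hN : IsPGroup 2 N) (q : L.Q) : ∃ k : ℕ, 2 ^ k • q = 0 := by
  obtain ⟨x, rfl⟩ := L.cls_surjective q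
  obtain ⟨k, hk⟩ := hN.to_le L.hXN x
  refine ⟨k, ?_⟩
  show Additive.ofMul ((x : L.X ⧸ L.Y.subgroupOf L.X) ^ 2 ^ k) = 0
  rw [← QuotientGroup.mk_pow, hk]
  rfl

lemma fpf [Finite G] (hN : IsPGroup 2 N) (e : G ⧸ N ≃* S)
    (hg : ∀ g : G, ∀ p : ℕ, p.Prime → p ≠ 2 → orderOf g = p → ∀ x ∈ N, g * x = x * g → x = 1) :
    Fpf fun s (v : L.Q) => L.rep e s v := by
  intro s p hp hp2 hs v hv
  haveI : Fact p.Prime := ⟨hp⟩
  obtain ⟨g0, hg0⟩ := QuotientGroup.mk_surjective (e.symm s)
  have hse : s = e (g0 : G ⧸ N) := by rw [hg0, e.apply_symm_apply]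
  have hmem : g0 ^ p ∈ N := by
    rw [← QuotientGroup.eq_one_iff, QuotientGroup.mk_pow, hg0, ← map_pow, ← hs, pow_orderOf_eq_one,
      map_one]
  obtain ⟨k, hk⟩ := hN ⟨_, hmem⟩
  have hk' : g0 ^ (p * 2 ^ k) = 1 := by rw [pow_mul]; exact congrArg Subtype.val hk
  set g := g0 ^ 2 ^ k with hgdef
  have hgN : g ∉ N := by
    intro hh
    rw [← QuotientGroup.eq_one_iff, QuotientGroup.mk_pow, hg0, ← map_pow,
      map_eq_one_iff _ e.symm.injective, ← orderOf_dvd_iff_pow_eq_one, hs] at hh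
    exact hp2 ((Nat.prime_dvd_prime_iff_eq hp Nat.prime_two).1 (hp.dvd_of_dvd_pow hh))
  have hgo : orderOf g = p := orderOf_eq_prime (by rw [hgdef, ← pow_mul, mul_comm]; exact hk')
    (fun hh => hgN (by rw [hh]; exact one_mem N))
  obtain ⟨x, rfl⟩ := L.cls_surjective v
  have hfix0 : L.act g0 (L.cls x) = L.cls x := by rw [← L.rep_apply e, ← hse]; exact hv
  have hfix : L.act g (L.cls x) = L.cls x := by
    rw [hgdef, map_pow]
    generalize 2 ^ k = j
    induction j with
    | zero => rw [pow_zero]; rfl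
    | succ j ih =>
      rw [pow_succ]
      show (L.act g0 ^ j) (L.act g0 (L.cls x)) = _
      rw [hfix0, ih]
  -- the coset
  let K : Type _ := {y : G // y ∈ L.X ∧ (x : G)⁻¹ * y ∈ L.Y}
  have hstab : ∀ h' : Subgroup.zpowers g, L.act (h' : G) (L.cls x) = L.cls x := by
    rintro ⟨h', hh'⟩
    obtain ⟨j, rfl⟩ := mem_powers_iff_mem_zpowers.2 hh'
    simp only [map_pow]
    induction j with
    | zero => rw [pow_zero]; rfl
    | succ j ih =>
      rw [pow_succ]
      show (L.act g ^ j) (L.act g (L.cls x)) = _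
      rw [hfix, ih (mem_powers_iff_mem_zpowers.1 ⟨j, rfl⟩)]
  letI : MulAction (Subgroup.zpowers g) K :=
    { smul := fun h' y => ⟨h' * y.1 * (h' : G)⁻¹, L.hX.conj_mem _ y.2.1 _, by
        have e1 : L.cls x = L.cls ⟨y.1, y.2.1⟩ := L.cls_eq_cls.2 y.2.2
        have e2 := hstab h'
        rw [e1, L.act_cls] at e2
        exact L.cls_eq_cls.1 (e1.trans e2.symm)⟩
      one_smul := fun y => Subtype.ext (by
        show (1 : G) * y.1 * (1 : G)⁻¹ = y.1
        simp)
      mul_smul := fun a b y => Subtype.ext (by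
        show (a : G) * b * y.1 * ((a : G) * b)⁻¹ = a * (b * y.1 * (b : G)⁻¹) * (a : G)⁻¹
        group) }
  have hcard : Nat.card K = Nat.card (L.Y ⊓ L.X : Subgroup G) := by
    refine Nat.card_congr
      { toFun := fun y => ⟨(x : G)⁻¹ * y.1, y.2.2, L.X.mul_mem (L.X.inv_mem x.2) y.2.1⟩
        invFun := fun z => ⟨x * z.1, L.X.mul_mem x.2 z.2.2, by simpa using z.2.1⟩
        left_inv := fun y => Subtype.ext (mul_inv_cancel_left _ _)
        right_inv := fun z => Subtype.ext (inv_mul_cancel_left _ _) }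
  have hnd : ¬ p ∣ Nat.card K := by
    obtain ⟨j, hj⟩ := IsPGroup.iff_card.1 (hN.to_le (inf_le_right.trans L.hXN :
      (L.Y ⊓ L.X : Subgroup G) ≤ N))
    rw [hcard, hj]
    exact fun hd => hp2 ((Nat.prime_dvd_prime_iff_eq hp Nat.prime_two).1 (hp.dvd_of_dvd_pow hd))
  have hP : IsPGroup p (Subgroup.zpowers g) :=
    IsPGroup.of_card (n := 1) (by rw [Nat.card_zpowers, hgo, pow_one])
  obtain ⟨⟨y, hyX, hyY⟩, hy⟩ := hP.nonempty_fixed_point_of_prime_not_dvd_card K hnd
  have hcomm : g * y * g⁻¹ = y :=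
    congrArg Subtype.val (hy ⟨g, Subgroup.mem_zpowers g⟩)
  have hy1 : y = 1 := hg g p hp hp2 hgo y (L.hXN hyX) (mul_inv_eq_iff_eq_mul.1 hcomm)
  refine L.cls_eq_zero.2 ?_
  rw [hy1, mul_one] at hyY
  exact inv_mem_iff.1 hyY

end Layer

universe uG

set_option maxHeartbeats 1600000 in
/-- A normal `2`-subgroup with fixed-point-free odd elements, over a quotient whose
fixed-point-free modules have exponent two and no nonzero equivariant pairings. -/
theorem elementary_abelian_of {S : Type*} [Group S]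
    (hexp : ∀ (M : Type uG) [AddCommGroup M] [Finite M], (∀ y : M, ∃ k : ℕ, 2 ^ k • y = 0) →
      ∀ ρ : S →* AddMonoid.End M, (Fpf fun g (v : M) => ρ g v) → ∀ y : M, 2 • y = 0)
    (hpair : ∀ (A B C : Type uG) [AddCommGroup A] [AddCommGroup B] [AddCommGroup C] [Finite A] [Finite B]
      [Finite C], (∀ a : A, 2 • a = 0) → (∀ a : B, 2 • a = 0) → (∀ a : C, 2 • a = 0) →
      ∀ (ρA : S →* AddMonoid.End A) (ρB : S →* AddMonoid.End B) (ρC : S →* AddMonoid.End C),
      (Fpf fun g (v : A) => ρA g v) → (Fpf fun g (v : B) => ρB g v) → (Fpf fun g (v : C) => ρC g v) →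
      ∀ c : A →+ B →+ C, (∀ g x y, c (ρA g x) (ρB g y) = ρC g (c x y)) → ∀ x y, c x y = 0)
    {G : Type uG} [Group G] [Finite G] (N : Subgroup G)
    [hNn : N.Normal] (hN : IsPGroup 2 N) (e : G ⧸ N ≃* S)
    (hg : ∀ g : G, ∀ p : ℕ, p.Prime → p ≠ 2 → orderOf g = p → ∀ x ∈ N, g * x = x * g → x = 1) :
    IsMulCommutative N ∧ ∀ x ∈ N, x * x = 1 := by
  have hcomm : ∀ x ∈ N, ∀ y ∈ N, x * y = y * x := by
    let Z : Subgroup G := N ⊓ Subgroup.centralizer (N : Set G)
    have hZ : Z.Normal := inferInstance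
    let X : Subgroup G :=
      { carrier := {x | x ∈ N ∧ ∀ n ∈ N, n * x * n⁻¹ * x⁻¹ ∈ Z}
        one_mem' := ⟨one_mem N, fun n _ => by simp⟩
        mul_mem' := fun {a b} ha hb => ⟨mul_mem ha.1 hb.1, fun n hn => by
          have e1 : n * (a * b) * n⁻¹ * (a * b)⁻¹ =
              (n * a * n⁻¹ * a⁻¹) * (a * (n * b * n⁻¹ * b⁻¹) * a⁻¹) := by group
          rw [e1]
          exact mul_mem (ha.2 n hn) (hZ.conj_mem _ (hb.2 n hn) a)⟩
        inv_mem' := fun {a} ha => ⟨inv_mem ha.1, fun n hn => by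
          have e1 : n * a⁻¹ * n⁻¹ * a⁻¹⁻¹ = a⁻¹ * (n * a * n⁻¹ * a⁻¹)⁻¹ * a⁻¹⁻¹ := by group
          rw [e1]
          exact hZ.conj_mem _ (inv_mem (ha.2 n hn)) a⁻¹⟩ }
    have hXn : X.Normal := ⟨fun x hx g => ⟨hNn.conj_mem _ hx.1 g, fun n hn => by
      have e1 : n * (g * x * g⁻¹) * n⁻¹ * (g * x * g⁻¹)⁻¹ =
          g * ((g⁻¹ * n * g⁻¹⁻¹) * x * (g⁻¹ * n * g⁻¹⁻¹)⁻¹ * x⁻¹) * g⁻¹ := by group
      rw [e1]
      exact hZ.conj_mem _ (hx.2 _ (hNn.conj_mem _ hn g⁻¹)) g⟩⟩
    let LA : Layer N := ⟨X, Z, fun x hx => hx.1, hXn, hZ, fun n hn x hx => hx.2 n hn⟩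
    let LB : Layer N := ⟨N, ⁅N, N⁆, le_rfl, hNn, inferInstance,
      fun n hn x hx => Subgroup.commutator_mem_commutator hn hx⟩
    let LC : Layer N := ⟨Z, ⊥, inf_le_left, hZ, inferInstance, fun n hn x hx => by
      rw [Subgroup.mem_bot, mul_inv_eq_one, Subgroup.mem_centralizer_iff.1 hx.2 n hn,
        mul_inv_cancel_right]⟩
    have h2 : ∀ L : Layer N, ∀ q : L.Q, 2 • q = 0 := fun L q =>
      hexp L.Q (L.two_pow hN) (L.rep e) (L.fpf hN e hg) q
    -- the commutator pairing
    have hcen : ∀ z ∈ Z, ∀ n ∈ N, n * z = z * n := fun z hz n hn =>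
      Subgroup.mem_centralizer_iff.1 hz.2 n hn
    let κ : LA.X → LB.X → LC.X := fun x n =>
      ⟨(n : G) * x * (n : G)⁻¹ * (x : G)⁻¹, x.2.2 n n.2⟩
    have hκx : ∀ x x' n, κ (x * x') n = κ x n * κ x' n := by
      intro x x' n
      apply Subtype.ext
      show (n : G) * ((x : G) * x') * (n : G)⁻¹ * ((x : G) * x')⁻¹ =
        (n : G) * x * (n : G)⁻¹ * (x : G)⁻¹ * ((n : G) * x' * (n : G)⁻¹ * (x' : G)⁻¹)
      have hc1 := hcen _ (x'.2.2 n n.2) x x.2.1
      calc _ = ((n : G) * x * (n : G)⁻¹ * (x : G)⁻¹) *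
          ((x : G) * ((n : G) * x' * (n : G)⁻¹ * (x' : G)⁻¹) * (x : G)⁻¹) := by group
        _ = _ := by rw [hc1, mul_inv_cancel_right]
    have hκn : ∀ x n n', κ x (n * n') = κ x n * κ x n' := by
      intro x n n'
      apply Subtype.ext
      show (n : G) * n' * x * ((n : G) * n')⁻¹ * (x : G)⁻¹ =
        (n : G) * x * (n : G)⁻¹ * (x : G)⁻¹ * ((n' : G) * x * (n' : G)⁻¹ * (x : G)⁻¹)
      have hc1 := hcen _ (x.2.2 n' n'.2) n n.2
      have hc2 := hcen _ (x.2.2 n' n'.2) x x.2.1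
      calc _ = (n : G) * ((n' : G) * x * (n' : G)⁻¹ * (x : G)⁻¹) * x * (n : G)⁻¹ * (x : G)⁻¹ := by
            group
        _ = ((n' : G) * x * (n' : G)⁻¹ * (x : G)⁻¹) *
            ((n : G) * x * (n : G)⁻¹ * (x : G)⁻¹) := by rw [hc1]; group
        _ = ((n : G) * x * (n : G)⁻¹ * (x : G)⁻¹) *
            ((n' : G) * x * (n' : G)⁻¹ * (x : G)⁻¹) :=
            (hcen _ (x.2.2 n n.2) _ (x.2.2 n' n'.2).1)
    have hκ1 : ∀ x, LB.Y.subgroupOf LB.X ≤
        (MonoidHom.mk' (fun n => (Multiplicative.ofAdd (LC.cls (κ x n)) : Multiplicative LC.Q))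
          (fun a b => by rw [hκn]; rfl)).ker := by
      intro x n hn
      have hle : (⁅(⊤ : Subgroup LB.X), (⊤ : Subgroup LB.X)⁆) = LB.Y.subgroupOf LB.X := by
        apply Subgroup.map_injective (LB.X.subtype_injective)
        rw [Subgroup.map_commutator, ← MonoidHom.range_eq_map, Subgroup.range_subtype,
          Subgroup.map_subgroupOf_eq_of_le (Subgroup.commutator_le_self N)]
      rw [← hle] at hn
      exact Abelianization.commutator_subset_ker _ hn
    let cn : LA.X → LB.Q →+ LC.Q := fun x => MonoidHom.toAdditiveLeft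
      (QuotientGroup.lift _ _ (hκ1 x))
    have hcn : ∀ x n, cn x (LB.cls n) = LC.cls (κ x n) := fun x n => rfl
    have hcnY : ∀ x : LA.X, (x : G) ∈ Z → cn x = 0 := by
      intro x hx
      refine AddMonoidHom.ext fun q => ?_
      obtain ⟨n, rfl⟩ := LB.cls_surjective q
      rw [hcn, AddMonoidHom.zero_apply, LC.cls_eq_zero]
      show (n : G) * x * (n : G)⁻¹ * (x : G)⁻¹ ∈ (⊥ : Subgroup G)
      rw [Subgroup.mem_bot, hcen _ hx n n.2, mul_inv_cancel_right, mul_inv_cancel]
    let cA : LA.X →* Multiplicative (LB.Q →+ LC.Q) :=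
      MonoidHom.mk' (fun x => Multiplicative.ofAdd (cn x)) fun a b => by
        rw [← ofAdd_add]
        congr 1
        refine AddMonoidHom.ext fun q => ?_
        obtain ⟨n, rfl⟩ := LB.cls_surjective q
        rw [AddMonoidHom.add_apply, hcn, hcn, hcn, hκx]
        rfl
    let c : LA.Q →+ LB.Q →+ LC.Q := MonoidHom.toAdditiveLeft
      (QuotientGroup.lift (LA.Y.subgroupOf LA.X) cA fun x hx => by
        show Multiplicative.ofAdd (cn x) = 1
        rw [hcnY x (Subgroup.mem_subgroupOf.1 hx)]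
        rfl)
    have hc : ∀ x n, c (LA.cls x) (LB.cls n) = LC.cls (κ x n) := fun x n => hcn x n
    have hequiv : ∀ s a b, c (LA.rep e s a) (LB.rep e s b) = LC.rep e s (c a b) := by
      intro s a b
      obtain ⟨g, hgs⟩ := QuotientGroup.mk_surjective (e.symm s)
      obtain ⟨x, rfl⟩ := LA.cls_surjective a
      obtain ⟨n, rfl⟩ := LB.cls_surjective b
      rw [show s = e (g : G ⧸ N) by rw [hgs, e.apply_symm_apply], Layer.rep_apply, Layer.rep_apply,
        Layer.rep_apply, Layer.act_cls, Layer.act_cls, hc, hc, Layer.act_cls]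
      congr 1
      apply Subtype.ext
      show g * n * g⁻¹ * (g * x * g⁻¹) * (g * (n : G) * g⁻¹)⁻¹ * (g * (x : G) * g⁻¹)⁻¹ =
        g * ((n : G) * x * (n : G)⁻¹ * (x : G)⁻¹) * g⁻¹
      group
    have hzero := hpair LA.Q LB.Q LC.Q (h2 LA) (h2 LB) (h2 LC) (LA.rep e) (LB.rep e) (LC.rep e)
      (LA.fpf hN e hg) (LB.fpf hN e hg) (LC.fpf hN e hg) c hequiv
    -- so the second centre is the centre
    have hXZ : ∀ x ∈ X, x ∈ Z := by
      intro x hx
      refine ⟨hx.1, Subgroup.mem_centralizer_iff.2 fun n hn => ?_⟩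
      have h0 := hzero (LA.cls ⟨x, hx⟩) (LB.cls ⟨n, hn⟩)
      rw [hc, LC.cls_eq_zero] at h0
      have h1 : n * x * n⁻¹ * x⁻¹ = 1 := h0
      rw [mul_inv_eq_one, mul_inv_eq_iff_eq_mul] at h1
      exact h1
    intro x hx y hy
    by_contra hne
    haveI : Fact (Nat.Prime 2) := ⟨Nat.prime_two⟩
    have hne' : Subgroup.center N ≠ ⊤ := fun ht => hne
      (congrArg Subtype.val (Subgroup.mem_center_iff.1 (ht ▸ Subgroup.mem_top (⟨x, hx⟩ : N)) ⟨y, hy⟩)).symm
    haveI : Nontrivial (N ⧸ Subgroup.center N) :=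
      (QuotientGroup.nontrivial_iff).2 hne'
    haveI := (hN.to_quotient (Subgroup.center N)).center_nontrivial
    obtain ⟨q, hq⟩ := exists_ne (1 : Subgroup.center (N ⧸ Subgroup.center N))
    obtain ⟨w, hw⟩ := QuotientGroup.mk_surjective (q : N ⧸ Subgroup.center N)
    have hwX : (w : G) ∈ X := by
      refine ⟨w.2, fun n hn => ?_⟩
      have h1 : (⟨n, hn⟩ * w * ⟨n, hn⟩⁻¹ * w⁻¹ : N) ∈ Subgroup.center N := by
        rw [← QuotientGroup.eq_one_iff]
        simp only [QuotientGroup.mk_mul, QuotientGroup.mk_inv, hw]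
        rw [Subgroup.mem_center_iff.1 q.2 _, mul_inv_cancel_right, mul_inv_cancel]
      refine ⟨N.mul_mem (N.mul_mem (N.mul_mem hn w.2) (N.inv_mem hn)) (N.inv_mem w.2), ?_⟩
      exact Subgroup.mem_centralizer_iff.2 fun k hk =>
        congrArg Subtype.val (Subgroup.mem_center_iff.1 h1 ⟨k, hk⟩)
    refine hq (Subtype.ext ?_)
    rw [← hw, Subgroup.coe_one, QuotientGroup.eq_one_iff, Subgroup.mem_center_iff]
    exact fun k => Subtype.ext (hcen _ (hXZ _ hwX) k k.2)
  refine ⟨⟨⟨fun a b => Subtype.ext (hcomm a a.2 b b.2)⟩⟩, fun x hx => ?_⟩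
  let L : Layer N := ⟨N, ⊥, le_rfl, hNn, inferInstance, fun n hn y hy => by
    rw [Subgroup.mem_bot, hcomm n hn y hy, mul_inv_cancel_right, mul_inv_cancel]⟩
  have := hexp L.Q (L.two_pow hN) (L.rep e) (L.fpf hN e hg) (L.cls ⟨x, hx⟩)
  have h' : L.cls (⟨x, hx⟩ * ⟨x, hx⟩) = 0 := by rw [← this, two_nsmul]; rfl
  exact Subgroup.mem_bot.1 (L.cls_eq_zero.1 h')

include h in
/-- A normal `2`-subgroup with Suzuki quotient and fixed-point-free odd elements. -/
theorem elementary_abelian (hm : 1 ≤ m) {G : Type*} [Group G] [Finite G] (N : Subgroup G)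
    [N.Normal] (hN : IsPGroup 2 N) (e : G ⧸ N ≃* Cfsg.Sz F m)
    (hg : ∀ g : G, ∀ p : ℕ, p.Prime → p ≠ 2 → orderOf g = p → ∀ x ∈ N, g * x = x * g → x = 1) :
    IsMulCommutative N ∧ ∀ x ∈ N, x * x = 1 :=
  elementary_abelian_of (fun _ _ _ hM ρ hf => two_smul_eq_zero_of_pow h hm hM ρ hf)
    (fun _ _ _ _ _ _ _ _ _ hA hB hC ρA ρB ρC fA fB fC c hc =>
      biadditive_zero h hm hA hB hC ρA ρB ρC fA fB fC c hc) N hN e hg

end Cfsg.Agent.Lib.SzModule
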