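import Cfsg.Agent.Lib.SzModule.Natural

/-!
# Irreducible modules of the Suzuki groups on which odd prime elements act without fixed points

Every such module in characteristic two is a twisted natural module (`exists_equiv_natural`): an
element of order five shows that a vector fixed by the root group lies in the augmentation part of
the module generated by its Weyl image, so the module is a quotient of the tensor product of twisted
natural modules with the same weight, and in a proper tensor product an element of order five has a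
fixed vector.
-/

set_option autoImplicit false
set_option linter.unusedSectionVars false
set_option linter.style.haveILetI false

namespace Cfsg.Agent.Lib.SzModule

open Matrix Cfsg.Agent.Lib.LieTwisted.Suzuki
open scoped Classical

/-- No element of odd prime order fixes a nonzero vector. -/
def Fpf {S M : Type*} [Monoid S] [Zero M] (ρ : S → M → M) : Prop :=
  ∀ (x : S) (p : ℕ), p.Prime → p ≠ 2 → orderOf x = p → ∀ v : M, ρ x v = v → v = 0

variable {F : Type*} [Field F] [Fintype F] {m : ℕ} (h : IsSzField F m)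

/-- The element of order five. -/
def five : Cfsg.Sz F m := uS h 0 1 * wS h

lemma five_sq : five h * five h = uS h 1 1 * wS h * uS h 1 1 := by
  apply mat_injective
  have t := h.two0
  ext i j
  fin_cases i <;> fin_cases j <;>
    simp [five, mat_mul, h.mat_uS, h.mat_wS, utMat, wMat, zfun, sg_one, sg_zero, Matrix.mul_apply,
      Fin.sum_univ_four] <;>
    (try ring_nf) <;> (try simp [t]) <;>
    (try first | linear_combination t | linear_combination 2 * t | linear_combination 3 * t |
      linear_combination 4 * t | linear_combination 5 * t | linear_combination 6 * t |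
      linear_combination 8 * t | linear_combination 10 * t |
      linear_combination (-2) * t)

lemma five_cube : five h * five h * five h = uS h 1 0 * wS h * uS h 1 0 := by
  rw [five_sq]
  apply mat_injective
  have t := h.two0
  ext i j
  fin_cases i <;> fin_cases j <;>
    simp [five, mat_mul, h.mat_uS, h.mat_wS, utMat, wMat, zfun, sg_one, sg_zero, Matrix.mul_apply,
      Fin.sum_univ_four] <;>
    (try ring_nf) <;> (try simp [t]) <;>
    (try first | linear_combination t | linear_combination 2 * t | linear_combination 3 * t |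
      linear_combination 4 * t | linear_combination 5 * t | linear_combination 6 * t |
      linear_combination 8 * t | linear_combination 10 * t |
      linear_combination (-2) * t)

lemma five_four : five h * five h * five h * five h = wS h * uS h 0 1 := by
  rw [five_cube]
  apply mat_injective
  have t := h.two0
  ext i j
  fin_cases i <;> fin_cases j <;>
    simp [five, mat_mul, h.mat_uS, h.mat_wS, utMat, wMat, zfun, sg_one, sg_zero, Matrix.mul_apply,
      Fin.sum_univ_four] <;>
    (try ring_nf) <;> (try simp [t]) <;>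
    (try first | linear_combination t | linear_combination 2 * t | linear_combination 3 * t |
      linear_combination 4 * t | linear_combination 5 * t | linear_combination 6 * t |
      linear_combination 8 * t | linear_combination 10 * t |
      linear_combination (-2) * t)

lemma five_pow_five : five h ^ 5 = 1 := by
  rw [show five h ^ 5 = five h * five h * five h * five h * five h by
    simp only [pow_succ, pow_zero, one_mul], five_four, five]
  have hz : uS h (0 : F) 1 * uS h 0 1 = 1 := by
    rw [h.uS_mul, show (0 : F) + 0 = 0 by ring,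
      show (1 : F) + 1 + sg m 0 * 0 = 0 by linear_combination h.two0, h.uS_zero]
  rw [mul_assoc, ← mul_assoc (uS h 0 1), hz, one_mul, h.wS_mul_self]

lemma five_ne_one : five h ≠ 1 := by
  intro h1
  have := congrFun (congrFun (congrArg mat h1) 0) 3
  simp [five, mat_mul, mat_one, h.mat_uS, h.mat_wS, utMat, wMat, Matrix.mul_apply,
    Fin.sum_univ_four] at this

lemma orderOf_five : orderOf (five h) = 5 := by
  haveI : Fact (Nat.Prime 5) := ⟨by norm_num⟩
  exact orderOf_eq_prime (five_pow_five h) (five_ne_one h)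

section Rep

variable {V : Type*} [AddCommGroup V] [Module F V] (ρ : Representation F (Cfsg.Sz F m) V)

/-- The augmentation part for the root group. -/
def augPart : Submodule F V :=
  Submodule.span F (Set.range fun p : (F × F) × V => ρ (uS h p.1.1 p.1.2) p.2 - p.2)

lemma sub_mem_augPart (a b : F) (y : V) : ρ (uS h a b) y - y ∈ augPart h ρ :=
  Submodule.subset_span ⟨((a, b), y), rfl⟩

lemma five_sum (hfpf : Fpf fun g (v : V) => ρ g v) (y : V) :
    ∑ k ∈ Finset.range 5, ρ (five h ^ k) y = 0 := by
  refine hfpf (five h) 5 (by norm_num) (by norm_num) (orderOf_five h) _ ?_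
  show ρ (five h) _ = _
  rw [map_sum]
  have hstep : ∀ k, ρ (five h) (ρ (five h ^ k) y) = ρ (five h ^ (k + 1)) y := fun k => by
    rw [pow_succ', map_mul, Module.End.mul_apply]
  simp only [hstep]
  rw [Finset.sum_range_succ, Finset.sum_range_succ' (fun k => ρ (five h ^ k) y) 4]
  simp [five_pow_five]

include h in
lemma char_two_smul (y : V) : y + y = 0 := by
  rw [← two_smul F, h.two0, zero_smul]

/-- A vector fixed by the root group lies in the augmentation part. -/
theorem fixed_mem_augPart (hfpf : Fpf fun g (v : V) => ρ g v) {v : V}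
    (hv : ∀ a b, ρ (uS h a b) v = v) : v ∈ augPart h ρ := by
  set n := ρ (wS h) v with hn
  have h5 := five_sum h ρ hfpf v
  simp only [Finset.sum_range_succ, Finset.sum_range_zero, zero_add, pow_succ, pow_zero, one_mul,
    map_one, Module.End.one_apply, five_four] at h5
  rw [five_cube, five_sq] at h5
  simp only [five, map_mul, Module.End.mul_apply, hv, ← hn] at h5
  have e : v = -((ρ (uS h 0 1) n - n) + (ρ (uS h 1 1) n - n) + (ρ (uS h 1 0) n - n)) +
      -(n + n + (n + n)) := by
    rw [eq_comm, ← sub_eq_zero, ← neg_eq_zero, ← h5]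
    abel
  rw [e]
  refine add_mem (neg_mem (add_mem (add_mem (sub_mem_augPart h ρ _ _ _) (sub_mem_augPart h ρ _ _ _))
    (sub_mem_augPart h ρ _ _ _))) ?_
  simp [char_two_smul h]

include h in
/-- A nonzero invariant subspace has a nonzero vector fixed by the root group. -/
theorem exists_fixed [Finite V] (Y : Submodule F V)
    (hY : ∀ a b, ∀ y ∈ Y, ρ (uS h a b) y ∈ Y) (hne : Y ≠ ⊥) :
    ∃ v ∈ Y, v ≠ 0 ∧ ∀ a b, ρ (uS h a b) v = v := by
  classical
  haveI : Fact (Nat.Prime 2) := ⟨Nat.prime_two⟩
  letI : MulAction (unip h) Y :=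
    { smul := fun u y => ⟨ρ (u : Cfsg.Sz F m) y, by
        obtain ⟨g, a, b, hg⟩ := u
        subst hg; exact hY a b y y.2⟩
      one_smul := fun y => Subtype.ext (by show ρ (1 : Cfsg.Sz F m) _ = _; simp)
      mul_smul := fun u v y => Subtype.ext (by
        show ρ ((u : Cfsg.Sz F m) * v) _ = ρ _ (ρ _ _)
        rw [map_mul]; rfl) }
  have hU : IsPGroup 2 (unip h) :=
    IsPGroup.of_card (n := 2 * (2 * m + 1)) (by rw [h.card_unip, h.card, ← pow_mul, mul_comm])
  have h2 : 2 ∣ Nat.card Y := by
    haveI : Nontrivial Y := Submodule.nontrivial_iff_ne_bot.2 hne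
    haveI := Fintype.ofFinite Y
    rw [Nat.card_eq_fintype_card, Module.card_eq_pow_finrank (K := F), h.card, ← pow_mul]
    exact dvd_pow_self 2 (Nat.mul_ne_zero (by omega) (Module.finrank_pos).ne')
  have h0 : (0 : Y) ∈ MulAction.fixedPoints (unip h) Y := fun u => Subtype.ext (map_zero _)
  obtain ⟨y, hy, hy0⟩ := hU.exists_fixed_point_of_prime_dvd_card_of_fixed_point _ h2 h0
  exact ⟨y, y.2, fun hh => hy0 (Subtype.ext hh.symm),
    fun a b => congrArg Subtype.val (hy ⟨uS h a b, h.uS_mem a b⟩)⟩

include h in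
/-- The augmentation part is proper. -/
theorem augPart_ne_top [Finite V] [Nontrivial V] : augPart h ρ ≠ ⊤ := by
  intro htop
  haveI : Finite (Module.Dual F V) :=
    Finite.of_injective (fun f : Module.Dual F V => (f : V → F)) DFunLike.coe_injective
  haveI : Nontrivial (Module.Dual F V) := by
    obtain ⟨y, hy⟩ := exists_ne (0 : V)
    obtain ⟨f, hf⟩ := not_forall.1 fun hh => hy ((Module.forall_dual_apply_eq_zero_iff F y).1 hh)
    exact ⟨f, 0, fun hh => hf (by rw [hh]; rfl)⟩
  obtain ⟨f, -, hf0, hf⟩ := exists_fixed h ρ.dual ⊤ (fun _ _ _ _ => trivial)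
    (by intro hh; obtain ⟨f, hf⟩ := exists_ne (0 : Module.Dual F V)
        exact hf ((Submodule.eq_bot_iff _).1 hh f trivial))
  apply hf0
  ext y
  have hle : augPart h ρ ≤ LinearMap.ker f := by
    refine Submodule.span_le.2 ?_
    rintro _ ⟨⟨⟨a, b⟩, z⟩, rfl⟩
    have h1 := LinearMap.congr_fun (hf a (b + sg m a * a)) z
    rw [Representation.dual_apply, ← h.uS_inv, inv_inv] at h1
    simp only [SetLike.mem_coe, LinearMap.mem_ker, map_sub, sub_eq_zero]
    exact h1
  exact hle (htop ▸ Submodule.mem_top)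

/-- The projection to a weight of the torus. -/
noncomputable def proj (k : ℕ) (y : V) : V := ∑ u : Fˣ, ((u⁻¹ ^ k : Fˣ) : F) • ρ (dS h u) y

lemma proj_eigen (k : ℕ) (y : V) (u0 : Fˣ) :
    ρ (dS h u0) (proj h ρ k y) = ((u0 ^ k : Fˣ) : F) • proj h ρ k y := by
  classical
  rw [proj, map_sum, Finset.smul_sum]
  refine Fintype.sum_equiv (Equiv.mulLeft u0) _ _ fun u => ?_
  rw [map_smul, Equiv.coe_mulLeft, map_mul, map_mul, Module.End.mul_apply, smul_smul,
    ← Units.val_mul]
  congr 2
  rw [← mul_pow]
  simp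

include h in
lemma sum_proj (y : V) : ∑ k ∈ Finset.range (Fintype.card F - 1), proj h ρ k y = y := by
  classical
  simp only [proj]
  rw [Finset.sum_comm, Finset.sum_eq_single 1]
  · have hodd : Odd (Fintype.card F - 1) := by
      rw [h.card]
      exact Nat.Even.sub_odd Nat.one_le_two_pow (Nat.even_pow.2 ⟨even_two, by omega⟩) odd_one
    obtain ⟨c, hc⟩ := hodd
    simp only [inv_one, one_pow, Units.val_one, one_smul, map_one, Module.End.one_apply,
      Finset.sum_const, Finset.card_range, hc]
    rw [add_nsmul, one_nsmul, mul_comm, mul_nsmul, two_nsmul, char_two_smul h, zero_add]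
  · intro u _ hu
    rw [← Finset.sum_smul]
    have hne : ((u⁻¹ : Fˣ) : F) ≠ 1 := fun hh => hu (inv_eq_one.1 (Units.ext hh))
    have : ∑ k ∈ Finset.range (Fintype.card F - 1), ((u⁻¹ ^ k : Fˣ) : F) = 0 := by
      simp only [Units.val_pow_eq_pow_val]
      rw [geom_sum_eq hne, FiniteField.pow_card_sub_one_eq_one _ (Units.ne_zero _)]
      simp
    rw [this, zero_smul]
  · simp

lemma proj_fixed (k : ℕ) {y : V} (hy : ∀ a b, ρ (uS h a b) y = y) (a b : F) :
    ρ (uS h a b) (proj h ρ k y) = proj h ρ k y := by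
  rw [proj, map_sum]
  refine Finset.sum_congr rfl fun u _ => ?_
  rw [map_smul]
  congr 1
  rw [← Module.End.mul_apply, ← map_mul, h.uS_mul_dS, map_mul, Module.End.mul_apply, hy]

end Rep

/-- The weight of `top`. -/
def wt {r : ℕ} (e : Fin r → ℕ) (u : Fˣ) : F := ∏ i, (sg m (u : F) * u) ^ 2 ^ e i

lemma tRep_dS_top {r : ℕ} (e : Fin r → ℕ) (u : Fˣ) :
    tRep h e (dS h u) (top F r) = wt (m := m) e u • top F r := by
  classical
  funext k
  rw [Pi.smul_apply, top, tRep_single]
  by_cases hk : k = fun _ => 0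
  · subst hk; simp [h.mat_dS, dgMat, wt]
  · obtain ⟨i, hi⟩ := Function.ne_iff.1 hk
    rw [Pi.single_eq_of_ne hk, smul_zero, Finset.prod_eq_zero (Finset.mem_univ i)]
    simp [h.mat_dS, dgMat, Matrix.diagonal_apply_ne _ hi]

include h in
/-- Every character of the torus is a weight. -/
theorem exists_wt (hm : 1 ≤ m) (k : ℕ) (hk : ∃ u : Fˣ, u ^ k ≠ 1) :
    ∃ (r : ℕ) (e : Fin r → ℕ), 1 ≤ r ∧ r < 2 * m + 1 ∧ Function.Injective e ∧
      (∀ i, e i < 2 * m + 1) ∧ ∀ u : Fˣ, ((u ^ k : Fˣ) : F) = wt (m := m) e u := by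
  classical
  let T : Fˣ →* Fˣ :=
    { toFun := fun u => Units.mk0 (sg m (u : F) * u)
        (mul_ne_zero (mt sg_eq_zero.1 u.ne_zero) u.ne_zero)
      map_one' := Units.ext (by simp [sg_one])
      map_mul' := fun u v => Units.ext (by simp [sg_mul]; ring) }
  obtain ⟨g, hg⟩ := IsCyclic.exists_generator (α := Fˣ)
  have hT : Function.Bijective T := Finite.injective_iff_bijective.1 fun u v huv =>
    Units.ext (h.sg_mul_self_inj (congrArg Units.val huv))
  obtain ⟨g', hg'⟩ := hT.2 g
  obtain ⟨c, hc⟩ := mem_powers_iff_mem_zpowers.2 (hg g')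
  have hTp : ∀ u, u = T u ^ c := by
    intro u
    obtain ⟨j, rfl⟩ := mem_powers_iff_mem_zpowers.2 (hg (u))
    simp only at *
    calc g ^ j = T g' ^ j := by rw [hg']
      _ = T (g' ^ j) := (map_pow _ _ _).symm
      _ = T ((g ^ c) ^ j) := by rw [hc]
      _ = T (g ^ j) ^ c := by rw [map_pow, map_pow, map_pow, ← pow_mul, ← pow_mul, mul_comm]
  set q1 := Fintype.card F - 1 with hq1
  set K := (c * k) % q1 with hK
  have hcard : Fintype.card Fˣ = q1 := Fintype.card_units F
  have hq1pos : 0 < q1 := by
    have := h.two_lt_card hm; omega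
  have hpow : ∀ u : Fˣ, u ^ k = T u ^ K := by
    intro u
    have h1 : T u ^ q1 = 1 := by rw [← hcard]; exact pow_card_eq_one
    conv_lhs => rw [hTp u, ← pow_mul, ← Nat.mod_add_div (c * k) q1, pow_add, pow_mul (T u) q1, h1,
      one_pow, mul_one]
  have hKlt : K < q1 := Nat.mod_lt _ hq1pos
  have hK0 : K ≠ 0 := by
    intro h0
    obtain ⟨u, hu⟩ := hk
    exact hu (by rw [hpow u, h0, pow_zero])
  let s : Finset ℕ := K.bitIndices.toFinset
  have hsum : ∑ i ∈ s, 2 ^ i = K := Finset.sum_toFinset_bitIndices_two_pow K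
  have hlt : ∀ i ∈ s, i < 2 * m + 1 := by
    intro i hi
    have : 2 ^ i ≤ K := hsum ▸ Finset.single_le_sum (fun j _ => Nat.zero_le _) hi
    refine (Nat.pow_lt_pow_iff_right (a := 2) (by norm_num)).1 ?_
    rw [← h.card]; omega
  have hr : s.card < 2 * m + 1 := by
    by_contra hge
    have hs : s = Finset.range (2 * m + 1) :=
      Finset.eq_of_subset_of_card_le (fun i hi => Finset.mem_range.2 (hlt i hi))
        (by simp; omega)
    rw [hs, Nat.geomSum_eq le_rfl] at hsum
    simp [h.card] at hsum hq1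
    omega
  have hpos : 1 ≤ s.card := by
    by_contra h0
    rw [Finset.card_eq_zero.1 (by omega : s.card = 0)] at hsum
    exact hK0 (by simpa using hsum.symm)
  refine ⟨s.card, s.orderEmbOfFin rfl, hpos, hr, (s.orderEmbOfFin rfl).injective,
    fun i => hlt _ (s.orderEmbOfFin_mem rfl i), fun u => ?_⟩
  rw [hpow u, Units.val_pow_eq_pow_val, wt, Finset.prod_pow_eq_pow_sum]
  congr 1
  rw [← hsum]
  conv_lhs => rw [← Finset.map_orderEmbOfFin_univ s rfl, Finset.sum_map]
  rfl

/-- In a tensor product of at least two factors an element of order five has a fixed vector. -/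
theorem exists_five_fixed {r : ℕ} (e : Fin r → ℕ) (hr : 2 ≤ r) :
    ∃ ξ : TV F r, ξ ≠ 0 ∧ tRep h e (five h) ξ = ξ := by
  classical
  obtain ⟨r, rfl⟩ : ∃ r', r = r' + 1 := ⟨r - 1, by omega⟩
  let l : Fin (r + 1) → Fin 4 := fun i => if i = 0 then 0 else 3
  refine ⟨∑ k ∈ Finset.range 5, tRep h e (five h ^ k) (Pi.single l 1), ?_, ?_⟩
  · intro h0
    have hv := congrFun h0 fun _ => 0
    rw [Finset.sum_apply] at hv
    simp only [tRep_single] at hv
    have he : ∀ k, (∏ i : Fin (r + 1), mat (five h ^ k) 0 (l i) ^ 2 ^ e i) =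
        mat (five h ^ k) 0 0 ^ 2 ^ e 0 * ∏ i : Fin r, mat (five h ^ k) 0 3 ^ 2 ^ e i.succ := by
      intro k; rw [Fin.prod_univ_succ]; simp [l, Fin.succ_ne_zero]
    have hz : (0 : Fin r → F) = fun _ => 0 := rfl
    simp only [he, Finset.sum_range_succ, Finset.sum_range_zero, zero_add, pow_succ, pow_zero,
      one_mul, mat_one, five_four] at hv
    rw [five_cube, five_sq] at hv
    simp [five, mat_mul, h.mat_uS, h.mat_wS, utMat, wMat, zfun, sg_one, sg_zero, Matrix.mul_apply,
      Fin.sum_univ_four, h.add_self] at hv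
    have hr0 : Finset.univ.Nonempty (α := Fin r) := ⟨⟨0, by omega⟩, Finset.mem_univ _⟩
    simp [zero_pow, show r ≠ 0 by omega] at hv
    exact one_ne_zero (α := F) (by linear_combination hv - h.two0)
  · rw [map_sum]
    have hstep : ∀ k, tRep h e (five h) (tRep h e (five h ^ k) (Pi.single l 1)) =
        tRep h e (five h ^ (k + 1)) (Pi.single l 1) := fun k => by
      rw [pow_succ', map_mul, Module.End.mul_apply]
    simp only [hstep]
    rw [Finset.sum_range_succ, Finset.sum_range_succ' (fun k => tRep h e (five h ^ k) _) 4]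
    simp [five_pow_five]

/-- The irreducible modules without fixed points of odd elements. -/
theorem exists_equiv_natural (hm : 1 ≤ m) {V : Type*} [AddCommGroup V] [Module F V] [Finite V]
    [Nontrivial V] (ρ : Representation F (Cfsg.Sz F m) V)
    (hfpf : Fpf fun g (v : V) => ρ g v)
    (hirr : ∀ Y : Submodule F V, (∀ g, ∀ y ∈ Y, ρ g y ∈ Y) → Y ≠ ⊥ → Y = ⊤) :
    ∃ i, i < 2 * m + 1 ∧ ∃ φ : TV F 1 ≃ₗ[F] V,
      ∀ g ξ, φ (tRep h (fun _ => i) g ξ) = ρ g (φ ξ) := by
  classical
  obtain ⟨y0, -, hy0, hy0f⟩ := exists_fixed h ρ ⊤ (fun _ _ _ _ => trivial) top_ne_bot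
  obtain ⟨k, hk⟩ : ∃ k, proj h ρ k y0 ≠ 0 := by
    by_contra hh
    push Not at hh
    exact hy0 (by rw [← sum_proj h ρ y0]; simp [hh])
  set v := proj h ρ k y0 with hv
  have hvf : ∀ a b, ρ (uS h a b) v = v := proj_fixed h ρ k hy0f
  have hvd : ∀ u, ρ (dS h u) v = ((u ^ k : Fˣ) : F) • v := proj_eigen h ρ k y0
  have hnt : ∃ u : Fˣ, u ^ k ≠ 1 := by
    by_contra hh
    push Not at hh
    obtain ⟨p, hp, hdvd⟩ := Nat.exists_prime_and_dvd (n := Fintype.card F - 1)
      (by have := h.two_lt_card hm; omega)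
    haveI : Fact p.Prime := ⟨hp⟩
    obtain ⟨u, hu⟩ := exists_prime_orderOf_dvd_card (G := Fˣ) p (by rwa [Fintype.card_units])
    have hp2 : p ≠ 2 := by
      rintro rfl
      have h1 := h.card
      have h2 : 2 ∣ 2 ^ (2 * m + 1) := dvd_pow_self 2 (by omega)
      have := h.two_lt_card hm
      omega
    refine hk (hfpf (dS h u) p hp hp2 ?_ v ?_)
    · rw [orderOf_injective _ h.dS_injective, hu]
    · show ρ (dS h u) v = v
      rw [hvd, hh, Units.val_one, one_smul]
  obtain ⟨r, e, hr1, hr, he, hlt, hwt⟩ := exists_wt h hm k hnt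
  set n := ρ (wS h) v with hn
  -- the diagonal submodule
  set O : Cfsg.Sz F m → TV F r × V := fun g => (tRep h e g (top F r), ρ g v) with hO
  set D : Submodule F (TV F r × V) := Submodule.span F (Set.range O) with hD
  have hDinv : ∀ g, ∀ z ∈ D, (tRep h e g z.1, ρ g z.2) ∈ D := by
    intro g z hz
    refine Submodule.span_induction ?_ ?_ ?_ ?_ hz
    · rintro _ ⟨g', rfl⟩
      refine Submodule.subset_span ⟨g * g', ?_⟩
      simp [O, map_mul, Module.End.mul_apply]
    · simp only [Prod.fst_zero, Prod.snd_zero, map_zero]; exact D.zero_mem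
    · intro x y _ _ hx hy
      simpa using add_mem hx hy
    · intro c x _ hx
      simpa using D.smul_mem c hx
  -- orbit elements are combinations of `v` and root group images of `n`
  have horb : ∀ g, (∃ c : F, O g = c • (top F r, v)) ∨
      ∃ (c : F) (a b : F), O g = c • (tRep h e (uS h a b) (bot F r), ρ (uS h a b) n) := by
    intro g
    obtain ⟨a, b, u, rfl | ⟨x, y, rfl⟩⟩ := h.bruhat hm g
    · left
      refine ⟨wt (m := m) e u, ?_⟩
      simp [O, map_mul, Module.End.mul_apply, tRep_dS_top, tRep_top, hvd, hvf, hwt, Prod.smul_mk]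
    · right
      refine ⟨wt (m := m) e u, x, y, ?_⟩
      simp [O, map_mul, Module.End.mul_apply, tRep_dS_top, tRep_top, tRep_wS_top, hvd, hvf, hwt,
        Prod.smul_mk, ← hn]
  set J1 := augPart h (tRep h e) with hJ1
  set J2 := augPart h ρ with hJ2
  have htopJ : top F r ≠ 0 := fun h0 => by simpa [top] using congrFun h0 (fun _ => 0)
  have hker : ∀ z ∈ J1, pair (top F r) z = 0 := by
    intro z hz
    refine Submodule.span_induction ?_ ?_ ?_ ?_ hz
    · rintro _ ⟨⟨⟨a, b⟩, η⟩, rfl⟩
      have h1 := pair_uS h e a b (top F r) η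
      rw [tRep_top] at h1
      simp only [pair, Pi.sub_apply, mul_sub, Finset.sum_sub_distrib]
      exact sub_eq_zero.2 h1
    · simp [pair]
    · intro x y _ _ hx hy
      simp only [pair, Pi.add_apply, mul_add, Finset.sum_add_distrib] at *
      rw [hx, hy, add_zero]
    · intro c x _ hx
      simp only [pair, Pi.smul_apply, smul_eq_mul, ← mul_assoc, mul_comm _ c] at *
      simp only [mul_assoc, ← Finset.mul_sum]
      rw [hx, mul_zero]
  have hbotpair : pair (top F r) (bot F r) = 1 := by simp [bot, pair_single, top]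
  have htop1 : top F r ∈ J1 := by
    have hY : (F ∙ bot F r) ⊔ J1 = ⊤ := by
      refine bot_cyclic h e hr he hlt _ (fun a b z hz => ?_)
        (Submodule.mem_sup_left (Submodule.mem_span_singleton_self _))
      have := add_mem hz (Submodule.mem_sup_right (S := F ∙ bot F r) (sub_mem_augPart h (tRep h e) a b z))
      rwa [add_sub_cancel] at this
    have hmem : top F r ∈ (F ∙ bot F r) ⊔ J1 := by rw [hY]; exact Submodule.mem_top
    obtain ⟨_, hb, j, hj, hs⟩ := Submodule.mem_sup.1 hmem
    obtain ⟨c, rfl⟩ := Submodule.mem_span_singleton.1 hb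
    have hp := congrArg (pair (top F r)) hs
    have h0 : pair (top F r) (top F r) = 0 := by
      show pair (top F r) (Pi.single (fun _ => 0) 1) = 0
      rw [pair_single, top, Pi.single_eq_of_ne]
      intro hh
      have := congrFun hh ⟨0, hr1⟩
      simp at this
    rw [show pair (top F r) (c • bot F r + j) = c * pair (top F r) (bot F r) + pair (top F r) j by
      simp [pair, mul_add, Finset.sum_add_distrib, Finset.mul_sum, mul_left_comm],
      hbotpair, hker j hj, h0, mul_one, add_zero] at hp
    rw [hp, zero_smul, zero_add] at hs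
    rwa [← hs]
  have hv2 : v ∈ J2 := fixed_mem_augPart h ρ hfpf hvf
  let E : Submodule F (TV F r × V) :=
    Submodule.span F {(bot F r, n)} ⊔ J1.prod J2
  have hDE : D ≤ E := by
    refine Submodule.span_le.2 ?_
    rintro _ ⟨g, rfl⟩
    rcases horb g with ⟨c, hc⟩ | ⟨c, a, b, hc⟩ <;> rw [SetLike.mem_coe, hc] <;>
      refine E.smul_mem c ?_
    · exact Submodule.mem_sup_right ⟨htop1, hv2⟩
    · have : ((tRep h e (uS h a b) (bot F r), ρ (uS h a b) n) : TV F r × V) =
          (bot F r, n) + (tRep h e (uS h a b) (bot F r) - bot F r, ρ (uS h a b) n - n) := by simp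
      rw [this]
      exact add_mem (Submodule.mem_sup_left (Submodule.mem_span_singleton_self _))
        (Submodule.mem_sup_right ⟨sub_mem_augPart h _ a b _, sub_mem_augPart h _ a b _⟩)
  have hspanV : ∀ y, y ∈ D.map (LinearMap.snd F (TV F r) V) := by
    have : D.map (LinearMap.snd F (TV F r) V) = ⊤ := by
      refine hirr _ (fun g y hy => ?_) ?_
      · obtain ⟨z, hz, rfl⟩ := hy
        exact ⟨_, hDinv g z hz, rfl⟩
      · intro hb
        refine hk ((Submodule.eq_bot_iff _).1 hb v ⟨O 1, Submodule.subset_span ⟨1, rfl⟩, ?_⟩)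
        simp [O]
    exact fun y => this ▸ Submodule.mem_top
  have hinj : ∀ y, ((0, y) : TV F r × V) ∈ D → y = 0 := by
    intro y hy
    by_contra hy0'
    let K : Submodule F V := D.comap (LinearMap.inr F (TV F r) V)
    have hK : K = ⊤ := hirr K (fun g z hz => by
      have := hDinv g _ hz
      simpa [K] using this) (fun hb => hy0' ((Submodule.eq_bot_iff _).1 hb y hy))
    have hn0 : ((0, n) : TV F r × V) ∈ E := hDE (show n ∈ K from hK ▸ Submodule.mem_top)
    obtain ⟨_, hb, ⟨j1, j2⟩, ⟨hj1, hj2⟩, hs⟩ := Submodule.mem_sup.1 hn0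
    obtain ⟨c, rfl⟩ := Submodule.mem_span_singleton.1 hb
    simp only [Prod.smul_mk, Prod.mk_add_mk, Prod.mk.injEq] at hs
    have hc0 : c = 0 := by
      have := congrArg (pair (top F r)) hs.1
      rw [show pair (top F r) (c • bot F r + j1) = c * pair (top F r) (bot F r) + pair (top F r) j1 by
        simp [pair, mul_add, Finset.sum_add_distrib, Finset.mul_sum, mul_left_comm],
        hbotpair, hker j1 hj1, mul_one, add_zero] at this
      simpa [pair] using this
    simp only [hc0, zero_smul, zero_add] at hs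
    have hnJ : n ∈ J2 := hs.2 ▸ hj2
    refine augPart_ne_top h ρ (eq_top_iff.2 fun y _ => ?_)
    obtain ⟨z, hz, rfl⟩ := hspanV y
    refine Submodule.span_le.2 ?_ |> fun hle => (show D ≤ J2.comap (LinearMap.snd F (TV F r) V) from hle) hz
    rintro _ ⟨g, rfl⟩
    rcases horb g with ⟨c, hc⟩ | ⟨c, a, b, hc⟩ <;>
      rw [SetLike.mem_coe, Submodule.mem_comap, hc] <;> refine J2.smul_mem c ?_
    · exact hv2
    · have := add_mem hnJ (sub_mem_augPart h ρ a b n)
      rwa [add_sub_cancel] at this
  -- the projection to the tensor product is bijective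
  let p1 : D →ₗ[F] TV F r := (LinearMap.fst F (TV F r) V).comp D.subtype
  have hp1 : Function.Bijective p1 := by
    refine ⟨(injective_iff_map_eq_zero _).2 fun z hz => ?_, ?_⟩
    · obtain ⟨⟨ξ, y⟩, hm'⟩ := z
      have hz' : ξ = 0 := hz
      subst hz'
      simpa using hinj y hm'
    · have : LinearMap.range p1 = ⊤ := by
        refine tRep_irreducible h e hr he hlt _ (fun g ξ hξ => ?_) ?_
        · obtain ⟨z, rfl⟩ := hξ
          exact ⟨⟨_, hDinv g _ z.2⟩, rfl⟩
        · intro hb
          refine htopJ ((Submodule.eq_bot_iff _).1 hb _ ⟨⟨O 1, Submodule.subset_span ⟨1, rfl⟩⟩, ?_⟩)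
          simp [p1, O]
      exact LinearMap.range_eq_top.1 this
  let P := LinearEquiv.ofBijective p1 hp1
  let φ : TV F r →ₗ[F] V := (LinearMap.snd F (TV F r) V).comp (D.subtype.comp P.symm.toLinearMap)
  have hφ : ∀ z ∈ D, φ z.1 = z.2 := by
    intro z hz
    have : P.symm z.1 = ⟨z, hz⟩ := P.injective (by rw [P.apply_symm_apply]; rfl)
    simp [φ, this]
  have hsurj : ∀ y, ∃ ξ, φ ξ = y := fun y => by
    obtain ⟨z, hz, rfl⟩ := hspanV y
    exact ⟨z.1, hφ z hz⟩
  have hequiv : ∀ g ξ, φ (tRep h e g ξ) = ρ g (φ ξ) := by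
    intro g ξ
    obtain ⟨z, rfl⟩ := hp1.2 ξ
    show φ (tRep h e g z.1.1) = ρ g (φ z.1.1)
    rw [hφ _ z.2, hφ _ (hDinv g _ z.2)]
  have hφi : Function.Injective φ := by
    rw [← LinearMap.ker_eq_bot]
    by_contra hb
    have hkt := tRep_irreducible h e hr he hlt _ (fun g ξ hξ => by
      rw [LinearMap.mem_ker] at hξ ⊢
      rw [hequiv, hξ, map_zero]) hb
    obtain ⟨ξ, hξ⟩ := hsurj v
    have : φ ξ = 0 := LinearMap.mem_ker.1 (hkt ▸ Submodule.mem_top)
    exact hk (hξ ▸ this)
  have hr_one : r = 1 := by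
    by_contra hne
    obtain ⟨ξ, hξ0, hξ⟩ := exists_five_fixed h e (by omega)
    refine hξ0 (hφi ?_)
    rw [map_zero]
    exact hfpf (five h) 5 (by norm_num) (by norm_num) (orderOf_five h) _
      (by show ρ (five h) _ = _; rw [← hequiv, hξ])
  subst hr_one
  refine ⟨e 0, hlt 0, LinearEquiv.ofBijective φ ⟨hφi, hsurj⟩, fun g ξ => ?_⟩
  rw [show (fun _ : Fin 1 => e 0) = e from funext fun i => by rw [Subsingleton.elim i 0]]
  exact hequiv g ξ

end Cfsg.Agent.Lib.SzModule
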