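import Cfsg.Agent.Lib.SzModule.Bilinear

/-!
# No module of exponent four

An abelian group of exponent dividing four with an action of a Suzuki group without fixed points of
elements of odd prime order has exponent two (`two_smul_eq_zero`).  Scalars are taken in the ring
`W2 F` of Witt vectors of length two, where an element `D` of the group algebra of the centre of the
root group satisfies `D ^ 2 = 2 D'`; on a lift of a lowest weight vector `D` has weight zero, hence
vanishes, while `2 D'` does not.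
-/

set_option autoImplicit false
set_option linter.unusedSectionVars false
set_option linter.style.haveILetI false

namespace Cfsg.Agent.Lib.SzModule

open Cfsg.Agent.Lib.LieTwisted.Suzuki
open scoped Classical

/-- Witt vectors of length two over a field of characteristic two. -/
@[ext] structure W2 (F : Type*) where
  /-- The residue. -/
  fst : F
  /-- The second coordinate. -/
  snd : F

namespace W2

variable {F : Type*} [Field F] [CharP F 2]

instance : Zero (W2 F) := ⟨⟨0, 0⟩⟩
instance : One (W2 F) := ⟨⟨1, 0⟩⟩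
instance : Add (W2 F) := ⟨fun a b => ⟨a.fst + b.fst, a.snd + b.snd + a.fst * b.fst⟩⟩
instance : Neg (W2 F) := ⟨fun a => ⟨a.fst, a.snd + a.fst ^ 2⟩⟩
instance : Mul (W2 F) :=
  ⟨fun a b => ⟨a.fst * b.fst, a.fst ^ 2 * b.snd + b.fst ^ 2 * a.snd⟩⟩

@[simp] lemma fst_zero : (0 : W2 F).fst = 0 := rfl
@[simp] lemma snd_zero : (0 : W2 F).snd = 0 := rfl
@[simp] lemma fst_one : (1 : W2 F).fst = 1 := rfl
@[simp] lemma snd_one : (1 : W2 F).snd = 0 := rfl
@[simp] lemma fst_add (a b : W2 F) : (a + b).fst = a.fst + b.fst := rfl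
@[simp] lemma snd_add (a b : W2 F) : (a + b).snd = a.snd + b.snd + a.fst * b.fst := rfl
@[simp] lemma fst_neg (a : W2 F) : (-a).fst = a.fst := rfl
@[simp] lemma snd_neg (a : W2 F) : (-a).snd = a.snd + a.fst ^ 2 := rfl
@[simp] lemma fst_mul (a b : W2 F) : (a * b).fst = a.fst * b.fst := rfl
@[simp] lemma snd_mul (a b : W2 F) : (a * b).snd = a.fst ^ 2 * b.snd + b.fst ^ 2 * a.snd := rfl

instance : CommRing (W2 F) :=
  CommRing.ofMinimalAxioms
    (fun a b c => by ext <;> simp <;> ring)
    (fun a => by ext <;> simp)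
    (fun a => by
      ext <;> simp [CharTwo.add_self_eq_zero]
      linear_combination (a.snd + a.fst ^ 2) * CharTwo.two_eq_zero (R := F))
    (fun a b c => by ext <;> simp <;> ring)
    (fun a b => by ext <;> simp <;> ring)
    (fun a => by ext <;> simp)
    (fun a b c => by
      ext <;> simp
      · ring
      · linear_combination (b.fst * c.fst * a.snd) * CharTwo.two_eq_zero (R := F))

instance [Finite F] : Finite (W2 F) :=
  Finite.of_injective (fun a => (a.fst, a.snd)) fun a b hab => W2.ext (congrArg Prod.fst hab) (congrArg Prod.snd hab)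

/-- The multiplicative section. -/
def tau : F →* W2 F where
  toFun x := ⟨x, 0⟩
  map_one' := rfl
  map_mul' x y := by ext <;> simp

/-- The kernel of the residue map. -/
def ver (x : F) : W2 F := ⟨0, x⟩

@[simp] lemma fst_tau (x : F) : (tau x).fst = x := rfl
@[simp] lemma snd_tau (x : F) : (tau x).snd = 0 := rfl
@[simp] lemma fst_ver (x : F) : (ver x).fst = 0 := rfl
@[simp] lemma snd_ver (x : F) : (ver x).snd = x := rfl

lemma tau_zero : tau (0 : F) = 0 := rfl

lemma two_eq : (2 : W2 F) = ver 1 := by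
  rw [← one_add_one_eq_two]; ext <;> simp [CharTwo.add_self_eq_zero]

lemma four_eq : (4 : W2 F) = 0 := by
  rw [show (4 : W2 F) = 2 * 2 by norm_num, two_eq]; ext <;> simp

lemma tau_add (x y : F) : tau x + tau y = tau (x + y) + ver (x * y) := by
  ext <;> simp

lemma ver_mul_two (x : F) : ver x * 2 = 0 := by
  rw [two_eq]; ext <;> simp

/-- `tau` sums to zero over a non-trivial character. -/
lemma sum_tau [Fintype F] (f : F → F) (_hf0 : f 0 = 0) (hf : ∀ x y, f (x * y) = f x * f y)
    (e : Fˣ) (he : f e ≠ 1) : ∑ x, tau (f x) = 0 := by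
  set S := ∑ x, tau (f x) with hS
  have h1 : tau (f e) * S = S := by
    rw [hS, Finset.mul_sum]
    refine Fintype.sum_equiv (Equiv.mulLeft₀ (e : F) e.ne_zero) _ _ fun x => ?_
    rw [← map_mul, ← hf]; rfl
  have h2 : (tau (f e) - 1) * S = 0 := by rw [sub_mul, h1, one_mul, sub_self]
  set r := tau (f e) - 1 with hr
  have hr0 : r.fst ≠ 0 := by
    rw [hr, sub_eq_add_neg]
    simp only [fst_add, fst_neg, fst_tau, fst_one]
    intro hh
    exact he (by rw [← sub_eq_zero, CharTwo.sub_eq_add]; exact hh)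
  let s : W2 F := ⟨r.fst⁻¹, r.snd / r.fst ^ 4⟩
  have hsr : s * r = 1 := by
    ext
    · simp [s, hr0]
    · simp only [s, snd_mul, snd_one]
      field_simp
      linear_combination r.snd * CharTwo.two_eq_zero (R := F)
  calc S = s * r * S := by rw [hsr, one_mul]
    _ = 0 := by rw [mul_assoc, h2, mul_zero]

/-- The Jacobi sum. -/
lemma jacobi [Fintype F] (e : Fˣ) (he : (e : F) ≠ 1) :
    ∑ y : F, tau ((y * (1 + y))⁻¹) = 2 := by
  have hne : ((e : F))⁻¹ ≠ 1 := fun hh => he (inv_eq_one.1 hh)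
  have hA : ∑ y : F, tau (y⁻¹) = 0 :=
    sum_tau (fun y => y⁻¹) inv_zero (fun x y => mul_inv x y) e hne
  have hB : ∑ y : F, tau ((1 + y)⁻¹) = 0 := by
    rw [← hA]
    exact Fintype.sum_equiv (Equiv.addLeft (1 : F)) _ _ fun y => rfl
  have hadd : ∀ y : F, y ≠ 0 → 1 + y ≠ 0 →
      y⁻¹ + (1 + y)⁻¹ = (y * (1 + y))⁻¹ ∧ y⁻¹ * (1 + y)⁻¹ = (y * (1 + y))⁻¹ := by
    intro y h0 h1
    refine ⟨?_, (mul_inv _ _).symm⟩
    field_simp
    linear_combination y * CharTwo.two_eq_zero (R := F)
  have hone : (1 : F) + 1 = 0 := CharTwo.add_self_eq_zero _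
  -- the exceptional values
  set ex : F → F := fun y => (if y = 0 then 1 else 0) + if y = 1 then 1 else 0 with hex
  have hdec : ∀ y : F, y⁻¹ + (1 + y)⁻¹ = (y * (1 + y))⁻¹ + ex y := by
    intro y
    by_cases h0 : y = 0
    · subst h0; simp [hex]
    by_cases h1 : y = 1
    · subst h1; simp [hex, hone]
    · have : 1 + y ≠ 0 := fun hh => h1 (by
        rw [← CharTwo.sub_eq_add, sub_eq_zero] at hh; exact hh.symm)
      simp [hex, h0, h1, (hadd y h0 this).1]
  have hsum0 : ∑ y : F, y⁻¹ = 0 := by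
    have := congrArg W2.fst hA
    have hfst : ∀ s : Finset F, (∑ y ∈ s, tau (y⁻¹)).fst = ∑ y ∈ s, y⁻¹ := by
      intro s
      induction s using Finset.induction with
      | empty => rfl
      | insert a s ha ih => rw [Finset.sum_insert ha, Finset.sum_insert ha, fst_add, ih]; rfl
    rwa [hfst, fst_zero] at this
  have hu : ∑ y : F, (y * (1 + y))⁻¹ = 0 := by
    have h2 : ∑ y : F, (y⁻¹ + (1 + y)⁻¹) = 0 := by
      rw [Finset.sum_add_distrib, hsum0, zero_add, ← hsum0]
      exact Fintype.sum_equiv (Equiv.addLeft (1 : F)) _ _ fun y => rfl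
    simp only [hdec, Finset.sum_add_distrib] at h2
    simpa [hex, Finset.sum_add_distrib, hone] using h2
  have hterm : ∀ y : F, tau ((y * (1 + y))⁻¹) =
      tau (y⁻¹) + tau ((1 + y)⁻¹) + ver ((y * (1 + y))⁻¹) + -tau (ex y) := by
    intro y
    by_cases h0 : y = 0
    · subst h0
      simp [hex]
      rw [show ver (0 : F) = 0 from rfl]
      simp
    by_cases h1 : y = 1
    · subst h1
      simp [hex, hone]
      rw [show ver (0 : F) = 0 from rfl]
      simp
    · have hy : 1 + y ≠ 0 := fun hh => h1 (by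
        rw [← CharTwo.sub_eq_add, sub_eq_zero] at hh; exact hh.symm)
      have hex0 : ex y = 0 := by simp [hex, h0, h1]
      rw [hex0, tau_zero, neg_zero, add_zero, tau_add, (hadd y h0 hy).1, (hadd y h0 hy).2, add_assoc]
      ext <;> simp [CharTwo.add_self_eq_zero]
  have hver : ∀ s : Finset F, ∑ y ∈ s, ver ((y * (1 + y))⁻¹) = ver (∑ y ∈ s, (y * (1 + y))⁻¹) := by
    intro s
    induction s using Finset.induction with
    | empty => rfl
    | insert a s ha ih =>
      rw [Finset.sum_insert ha, Finset.sum_insert ha, ih]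
      ext <;> simp
  have hexsum : ∑ y : F, tau (ex y) = 2 := by
    rw [Finset.sum_eq_add_of_mem (0 : F) 1 (Finset.mem_univ _) (Finset.mem_univ _) zero_ne_one]
    · simp [hex]; norm_num
    · intro y _ hy; simp [hex, hy.1, hy.2, tau_zero]
  simp only [hterm, Finset.sum_add_distrib, Finset.sum_neg_distrib, hA, hB, hver, hu, hexsum]
  rw [show ver (0 : F) = 0 from rfl]
  simp only [zero_add]
  linear_combination -(four_eq (F := F))

end W2

open W2

variable {F : Type*} [Field F] [Fintype F] {m : ℕ} (h : IsSzField F m)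

include h in
/-- An element of odd prime order in the torus. -/
lemma exists_dS_prime (hm : 1 ≤ m) : ∃ (u : Fˣ) (p : ℕ), p.Prime ∧ p ≠ 2 ∧ orderOf (dS h u) = p := by
  obtain ⟨p, hp, hdvd⟩ := Nat.exists_prime_and_dvd (n := Fintype.card F - 1)
    (by have := h.two_lt_card hm; omega)
  haveI : Fact p.Prime := ⟨hp⟩
  obtain ⟨u, hu⟩ := exists_prime_orderOf_dvd_card (G := Fˣ) p (by rwa [Fintype.card_units])
  refine ⟨u, p, hp, ?_, by rw [orderOf_injective _ h.dS_injective, hu]⟩
  rintro rfl
  have h1 := h.card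
  have h2 : 2 ∣ 2 ^ (2 * m + 1) := dvd_pow_self 2 (by omega)
  have := h.two_lt_card hm
  omega

section Core

variable [CharP F 2] {M : Type*} [AddCommGroup M] [Module (W2 F) M]
  (σ : Representation (W2 F) (Cfsg.Sz F m) M)

/-- The element of the group algebra of the centre of the root group. -/
noncomputable def dOp (l : ℕ) (y : M) : M := ∑ b : F, tau ((b⁻¹) ^ 2 ^ l) • σ (uS h 0 b) y

include h in
lemma dOp_eigen (l : ℕ) (e : Fˣ) (y : M) :
    σ (dS h e) (dOp h σ l y) =
      tau ((sg m (e : F) * (e : F) ^ 2) ^ 2 ^ l) • dOp h σ l (σ (dS h e) y) := by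
  have hne : sg m (e : F) * (e : F) ^ 2 ≠ 0 :=
    mul_ne_zero (mt sg_eq_zero.1 e.ne_zero) (pow_ne_zero _ e.ne_zero)
  rw [dOp, dOp, map_sum, Finset.smul_sum]
  refine Fintype.sum_equiv (Equiv.mulLeft₀ _ hne) _ _ fun b => ?_
  rw [map_smul, ← Module.End.mul_apply, ← map_mul, h.dS_mul_uS, map_mul, Module.End.mul_apply,
    smul_smul, ← map_mul, ← mul_pow]
  simp only [Equiv.mulLeft₀_apply, mul_zero]
  congr 2
  rw [mul_inv, ← mul_assoc, mul_inv_cancel₀ hne, one_mul]

include h in
/-- The square of the operator. -/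
lemma dOp_dOp (hm : 1 ≤ m) (l : ℕ) (y : M) :
    dOp h σ l (dOp h σ l y) = (2 : W2 F) • dOp h σ (l + 1) y := by
  obtain ⟨e, he1, he2⟩ := h.exists_ne01 hm
  haveI : Fact (Nat.Prime 2) := ⟨Nat.prime_two⟩
  have hfrob : ∀ (k : ℕ) (x : F), x ^ 2 ^ k = 1 → x = 1 := fun k x hx =>
    iterateFrobenius_inj F 2 k (by simpa [iterateFrobenius_def] using hx)
  have hcoef : ∀ c : F, ∑ a : F, tau ((a⁻¹) ^ 2 ^ l) * tau (((c + a)⁻¹) ^ 2 ^ l) =
      2 * tau ((c⁻¹) ^ 2 ^ (l + 1)) := by
    intro c
    simp only [← map_mul, ← mul_pow]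
    by_cases hc : c = 0
    · subst hc
      rw [inv_zero, zero_pow (by positivity), tau_zero, mul_zero]
      simp only [zero_add, ← sq]
      refine sum_tau (fun a => ((a⁻¹) ^ 2) ^ 2 ^ l) (by simp) (fun x y => by
        rw [← mul_pow (M := F) _ _ (2 ^ l), ← mul_pow, ← mul_inv]) (Units.mk0 e he1) ?_
      intro hh
      have h1 := hfrob 1 _ (show (e⁻¹) ^ 2 ^ 1 = 1 by rw [pow_one]; exact hfrob l _ hh)
      exact he2 (inv_eq_one.1 h1)
    · have hre : ∑ a : F, tau ((a⁻¹ * (c + a)⁻¹) ^ 2 ^ l) =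
          ∑ x : F, tau ((c⁻¹) ^ 2 ^ (l + 1)) * tau (((x * (1 + x))⁻¹) ^ 2 ^ l) := by
        refine (Fintype.sum_equiv (Equiv.mulLeft₀ c hc) _ _ fun x => ?_).symm
        rw [← map_mul, pow_succ', pow_mul, ← mul_pow, Equiv.mulLeft₀_apply]
        congr 2
        rw [show c + c * x = c * (1 + x) by ring, mul_inv, mul_inv, mul_inv]
        ring
      have hJ : ∑ x : F, tau (((x * (1 + x))⁻¹) ^ 2 ^ l) = 2 := by
        refine Eq.trans ?_ (jacobi (Units.mk0 e he1) he2)
        refine Fintype.sum_bijective (fun x : F => x ^ 2 ^ l)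
          (Finite.injective_iff_bijective.1 fun x x' hxx => iterateFrobenius_inj F 2 l
            (by simpa [iterateFrobenius_def] using hxx)) _ _ fun x => ?_
        rw [inv_pow, mul_pow, add_pow_char_pow, one_pow]
      rw [hre, ← Finset.mul_sum, hJ, mul_comm]
  simp only [dOp, map_sum, map_smul, Finset.smul_sum, smul_smul]
  rw [Finset.sum_comm]
  calc ∑ a : F, ∑ b : F, (tau ((b⁻¹) ^ 2 ^ l) * tau ((a⁻¹) ^ 2 ^ l)) •
        σ (uS h 0 b) (σ (uS h 0 a) y)
      = ∑ a : F, ∑ c : F, (tau ((a⁻¹) ^ 2 ^ l) * tau (((c + a)⁻¹) ^ 2 ^ l)) • σ (uS h 0 c) y := by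
        refine Finset.sum_congr rfl fun a _ => ?_
        refine Fintype.sum_equiv (Equiv.addRight a) _ _ fun b => ?_
        rw [← Module.End.mul_apply, ← map_mul σ, h.uS_mul, Equiv.coe_addRight, zero_add, mul_zero,
          add_zero, mul_comm (tau ((b⁻¹) ^ 2 ^ l))]
        rw [show b + a + a = b by rw [add_assoc, CharTwo.add_self_eq_zero, add_zero]]
    _ = ∑ c : F, (∑ a : F, tau ((a⁻¹) ^ 2 ^ l) * tau (((c + a)⁻¹) ^ 2 ^ l)) • σ (uS h 0 c) y := by
        rw [Finset.sum_comm]; simp only [Finset.sum_smul]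
    _ = _ := by simp only [hcoef]

end Core

include h in
/-- The core statement. -/
theorem witt_two_smul_eq_zero (hm : 1 ≤ m) [CharP F 2] {M : Type*} [AddCommGroup M]
    [Module (W2 F) M] [Finite M] (σ : Representation (W2 F) (Cfsg.Sz F m) M)
    (hfpf : Fpf fun g (v : M) => σ g v) (y : M) : (2 : W2 F) • y = 0 := by
  let T : AddSubgroup M :=
    { carrier := {z | ∃ y, (2 : W2 F) • y = z}
      zero_mem' := ⟨0, smul_zero _⟩
      add_mem' := fun ⟨a, ha⟩ ⟨b, hb⟩ => ⟨a + b, by rw [smul_add, ha, hb]⟩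
      neg_mem' := fun ⟨a, ha⟩ => ⟨-a, by rw [smul_neg, ha]⟩ }
  have hkill : ∀ (r : W2 F) (z : T), r.fst = 0 → r • (z : M) = 0 := by
    rintro r ⟨z, w, rfl⟩ hr
    rw [smul_smul, show r = ver r.snd from W2.ext hr rfl, ver_mul_two, zero_smul]
  letI : SMul F T := ⟨fun c z => ⟨tau c • (z : M), by
    obtain ⟨w, hw⟩ := z.2
    exact ⟨tau c • w, by rw [smul_comm, hw]⟩⟩⟩
  letI : Module F T := Module.ofMinimalAxioms
    (fun c x y => Subtype.ext (smul_add _ _ _))
    (fun a b x => Subtype.ext (by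
      show tau (a + b) • (x : M) = tau a • (x : M) + tau b • (x : M)
      rw [← add_smul, tau_add, add_smul, hkill (ver (a * b)) x rfl, add_zero]))
    (fun a b x => Subtype.ext (by
      show tau (a * b) • (x : M) = tau a • tau b • (x : M)
      rw [map_mul, smul_smul]))
    (fun x => Subtype.ext (by
      show tau (1 : F) • (x : M) = (x : M)
      rw [map_one, one_smul]))
  let ρ : Representation F (Cfsg.Sz F m) T :=
    { toFun := fun g =>
        { toFun := fun z => ⟨σ g (z : M), by
            obtain ⟨w, hw⟩ := z.2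
            exact ⟨σ g w, by rw [← map_smul, hw]⟩⟩
          map_add' := fun a b => Subtype.ext (map_add _ _ _)
          map_smul' := fun c a => Subtype.ext (map_smul (σ g) (tau c) (a : M)) }
      map_one' := LinearMap.ext fun z => Subtype.ext (by simp)
      map_mul' := fun g g' => LinearMap.ext fun z => Subtype.ext (by simp) }
  have hρ : Fpf fun g (v : T) => ρ g v := fun x p hp hp2 hx v hv =>
    Subtype.ext (hfpf x p hp hp2 hx v (congrArg Subtype.val hv))
  by_contra hy
  haveI : Nontrivial T := ⟨⟨(2 : W2 F) • y, y, rfl⟩, 0, fun hh => hy (congrArg Subtype.val hh)⟩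
  -- a minimal invariant subspace
  obtain ⟨Y, ⟨hYinv, hY0⟩, hYmin⟩ :=
    ({Y : Submodule F T | (∀ g, ∀ z ∈ Y, ρ g z ∈ Y) ∧ Y ≠ ⊥}).toFinite.exists_minimal
      ⟨⊤, ⟨fun _ _ _ => trivial, top_ne_bot⟩⟩
  haveI : Nontrivial Y := Submodule.nontrivial_iff_ne_bot.2 hY0
  obtain ⟨i, hi, φ, hφ⟩ := exists_equiv_natural h hm (subRep ρ Y hYinv)
    (fpf_sub ρ Y hYinv hρ) (fun Z hZ hZ0 => by
      have hle : Z.map Y.subtype ≤ Y := Submodule.map_subtype_le Y Z
      have hmem : Z.map Y.subtype ∈ {Y : Submodule F T | (∀ g, ∀ z ∈ Y, ρ g z ∈ Y) ∧ Y ≠ ⊥} := by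
        refine ⟨fun g z hz => ?_, ?_⟩
        · obtain ⟨w, hw, rfl⟩ := hz
          exact ⟨_, hZ g w hw, rfl⟩
        · exact fun hb => hZ0
            (Submodule.map_injective_of_injective Y.injective_subtype
              (by rw [hb, Submodule.map_bot]))
      have := le_antisymm hle (hYmin hmem hle)
      exact Submodule.map_injective_of_injective Y.injective_subtype
        (by rw [this, Submodule.map_subtype_top]))
  set n : T := ((φ (bot F 1) : Y) : T) with hn
  obtain ⟨y0, hy0⟩ := n.2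
  let χ : Fˣ → F := fun u => ((sg m (u : F) * u)⁻¹) ^ 2 ^ i
  have hχm : ∀ u v : Fˣ, χ (u * v) = χ u * χ v := fun u v => by
    simp only [χ, Units.val_mul, sg_mul, ← mul_pow, ← mul_inv]
    congr 2; ring
  have hχ0 : ∀ u : Fˣ, χ u ≠ 0 := fun u =>
    pow_ne_zero _ (inv_ne_zero (mul_ne_zero (mt sg_eq_zero.1 u.ne_zero) u.ne_zero))
  have hnd : ∀ u, σ (dS h u) (n : M) = tau (χ u) • (n : M) := by
    intro u
    have h1 : tRep h (fun _ : Fin 1 => i) (dS h u) (bot F 1) = χ u • bot F 1 := by
      funext k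
      rw [Pi.smul_apply, bot, tRep_single, Fin.prod_univ_one, h.mat_dS]
      by_cases hk : k = fun _ => 3
      · subst hk; simp [dgMat, χ]
      · have hk0 : k 0 ≠ 3 := fun hh => hk (funext fun j => by rw [Subsingleton.elim j 0, hh])
        rw [Pi.single_eq_of_ne hk, smul_zero, dgMat, Matrix.diagonal_apply_ne _ hk0,
          zero_pow (by positivity)]
    have h2 := hφ (dS h u) (bot F 1)
    rw [h1, map_smul] at h2
    exact (congrArg (fun z : Y => ((z : T) : M)) h2).symm
  set nh : M := -∑ u : Fˣ, tau (χ u)⁻¹ • σ (dS h u) y0 with hnh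
  have hwt : ∀ v, σ (dS h v) nh = tau (χ v) • nh := by
    intro v
    rw [hnh, map_neg, map_sum, smul_neg, Finset.smul_sum]
    congr 1
    refine Fintype.sum_equiv (Equiv.mulLeft v) _ _ fun u => ?_
    rw [map_smul, smul_smul, ← map_mul, Equiv.coe_mulLeft, map_mul (dS h), map_mul σ,
      Module.End.mul_apply]
    congr 2
    rw [hχm, mul_inv, ← mul_assoc, mul_inv_cancel₀ (hχ0 v), one_mul]
  have h2n : (2 : W2 F) • (n : M) = 0 := by
    rw [← hy0, smul_smul, show (2 : W2 F) * 2 = 4 by norm_num, four_eq, zero_smul]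
  have h2nh : (2 : W2 F) • nh = n := by
    rw [hnh, smul_neg, Finset.smul_sum]
    have : ∀ u : Fˣ, (2 : W2 F) • tau (χ u)⁻¹ • σ (dS h u) y0 = (n : M) := by
      intro u
      rw [smul_comm, ← map_smul, hy0, hnd, smul_smul, ← map_mul, inv_mul_cancel₀ (hχ0 u), map_one,
        one_smul]
    simp only [this, Finset.sum_const, Finset.card_univ, Fintype.card_units, h.card]
    obtain ⟨c, hc⟩ : ∃ c, 2 ^ (2 * m + 1) - 1 = 2 * c + 1 :=
      ⟨2 ^ (2 * m) - 1, by have := Nat.one_le_two_pow (n := 2 * m); rw [pow_succ]; omega⟩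
    have hneg : -(n : M) = (n : M) := by
      rw [neg_eq_iff_add_eq_zero, ← two_smul (W2 F), h2n]
    rw [hc, add_nsmul, one_nsmul, mul_comm, mul_nsmul, two_nsmul, ← nsmul_add,
      ← two_smul (W2 F) (n : M), h2n, nsmul_zero, zero_add, hneg]
  -- the operator has weight zero
  have hzero : dOp h σ (i + m) nh = 0 := by
    obtain ⟨u, p, hp, hp2, hu⟩ := exists_dS_prime h hm
    refine hfpf _ p hp hp2 hu _ ?_
    show σ (dS h u) _ = _
    rw [dOp_eigen, hwt]
    have hlin : ∀ (r : W2 F) (z : M), dOp h σ (i + m) (r • z) = r • dOp h σ (i + m) z := by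
      intro r z
      simp only [dOp, map_smul, Finset.smul_sum]
      exact Finset.sum_congr rfl fun b _ => smul_comm _ _ _
    rw [hlin, smul_smul, ← map_mul]
    have hkey : (sg m (u : F) * (u : F) ^ 2) ^ 2 ^ (i + m) * χ u = 1 := by
      have hsq : (sg m (u : F) * (u : F) ^ 2) ^ 2 ^ m = sg m (u : F) * u := by
        refine CharTwo.sq_injective ?_
        show ((sg m (u : F) * (u : F) ^ 2) ^ 2 ^ m) ^ 2 = (sg m (u : F) * u) ^ 2
        rw [← pow_mul, ← pow_succ]
        show sg m (sg m (u : F) * (u : F) ^ 2) = _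
        rw [sg_mul, h.sg_sg, sg_pow, mul_pow, mul_comm]
      rw [add_comm, pow_add, pow_mul, hsq]
      simp only [χ]
      rw [← mul_pow, mul_inv_cancel₀ (mul_ne_zero (mt sg_eq_zero.1 u.ne_zero) u.ne_zero), one_pow]
    rw [hkey, map_one, one_smul]
  have h0 := dOp_dOp h σ hm (i + m) nh
  rw [hzero] at h0
  have hDn : dOp h σ (i + m + 1) (n : M) = 0 := by
    rw [← h2nh]
    simp only [dOp, map_smul, smul_comm (tau _) (2 : W2 F), ← Finset.smul_sum]
    simp only [dOp, map_zero, smul_zero, Finset.sum_const_zero] at h0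
    exact h0.symm
  set ξ : TV F 1 :=
    ∑ b : F, ((b⁻¹) ^ 2 ^ (i + m + 1)) • tRep h (fun _ : Fin 1 => i) (uS h 0 b) (bot F 1) with hξ
  have hφξ : φ ξ = 0 := by
    refine Subtype.ext (Subtype.ext ?_)
    rw [hξ, map_sum]
    simp only [map_smul, hφ, Submodule.coe_sum, AddSubgroup.val_finsetSum, Submodule.coe_zero,
      AddSubgroup.coe_zero]
    exact hDn
  have hξ0 : ξ = 0 := φ.injective (by rw [hφξ, map_zero])
  have := congrFun hξ0 (fun _ => 0)
  rw [hξ, Finset.sum_apply] at this
  simp only [Pi.smul_apply, bot, tRep_single, Fin.prod_univ_one, h.mat_uS, Pi.zero_apply,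
    smul_eq_mul] at this
  have hz : ∀ b : F, utMat m 0 b 0 3 = sg m b := fun b => by simp [utMat, zfun, sg_zero]
  simp only [hz, sg, ← pow_mul, ← pow_add] at this
  rw [show i + m + 1 = m + 1 + i by ring] at this
  simp only [← mul_pow] at this
  have hterm : ∀ b : F, (b⁻¹ * b) ^ 2 ^ (m + 1 + i) = if b = 0 then 0 else 1 := by
    intro b
    split_ifs with hb
    · subst hb; simp
    · rw [inv_mul_cancel₀ hb, one_pow]
  simp only [hterm, Finset.sum_ite, Finset.sum_const_zero, zero_add, Finset.sum_const,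
    Finset.filter_ne', Finset.card_erase_of_mem (Finset.mem_univ _), Finset.card_univ, h.card,
    nsmul_eq_mul, mul_one] at this
  rw [Nat.cast_sub Nat.one_le_two_pow, Nat.cast_pow, Nat.cast_ofNat, h.two0,
    zero_pow (by omega), Nat.cast_one] at this
  simp at this

include h in
/-- Exponent four is impossible. -/
theorem two_smul_eq_zero (hm : 1 ≤ m) {M : Type*} [AddCommGroup M] [Finite M]
    (h4 : ∀ y : M, 4 • y = 0) (ρ : Cfsg.Sz F m →* AddMonoid.End M)
    (hfpf : Fpf fun g (v : M) => ρ g v) (y : M) : 2 • y = 0 := by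
  haveI := h.charTwo
  let σ : Representation (W2 F) (Cfsg.Sz F m) (M →+ W2 F) :=
    { toFun := fun g =>
        { toFun := fun f => f.comp (ρ g⁻¹)
          map_add' := fun _ _ => rfl
          map_smul' := fun _ _ => rfl }
      map_one' := LinearMap.ext fun f => AddMonoidHom.ext fun z => by
        show f (ρ 1⁻¹ z) = f z
        rw [inv_one, map_one]; rfl
      map_mul' := fun g g' => LinearMap.ext fun f => AddMonoidHom.ext fun z => by
        show f (ρ (g * g')⁻¹ z) = f (ρ g'⁻¹ (ρ g⁻¹ z))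
        rw [mul_inv_rev, map_mul]; rfl }
  haveI : Finite (M →+ W2 F) :=
    Finite.of_injective (fun f : M →+ W2 F => (f : M → W2 F)) DFunLike.coe_injective
  have hσ : Fpf fun g (v : M →+ W2 F) => σ g v := by
    intro x p hp hp2 hx f hf
    refine AddMonoidHom.ext fun z => ?_
    have hstep : ∀ k, f (ρ ((x⁻¹) ^ k) z) = f z := by
      intro k
      induction k generalizing z with
      | zero => simp
      | succ k ih =>
        rw [pow_succ', map_mul]
        exact (DFunLike.congr_fun hf _).trans (ih z)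
    have hsum : ∑ k ∈ Finset.range p, ρ ((x⁻¹) ^ k) z = 0 := by
      refine hfpf x⁻¹ p hp hp2 (by rw [orderOf_inv, hx]) _ ?_
      show ρ x⁻¹ _ = _
      rw [map_sum]
      have : ∀ k, ρ x⁻¹ (ρ ((x⁻¹) ^ k) z) = ρ ((x⁻¹) ^ (k + 1)) z := fun k => by
        rw [pow_succ', map_mul]; rfl
      simp only [this]
      obtain ⟨p', rfl⟩ : ∃ p', p = p' + 1 := ⟨p - 1, by have := hp.pos; omega⟩
      rw [Finset.sum_range_succ, Finset.sum_range_succ' (fun k => ρ ((x⁻¹) ^ k) z) p', ← hx,
        inv_pow x (orderOf x), pow_orderOf_eq_one]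
      simp
    have h1 := congrArg f hsum
    rw [map_sum, map_zero, Finset.sum_congr rfl (fun k _ => hstep k), Finset.sum_const,
      Finset.card_range] at h1
    obtain ⟨c, hc⟩ := hp.odd_of_ne_two hp2
    show f z = 0
    rw [nsmul_eq_mul, hc] at h1
    push_cast at h1
    linear_combination (2 * (c : W2 F) + 1) * h1 -
      ((c : W2 F) * (c : W2 F) + (c : W2 F)) * f z * four_eq (F := F)
  by_contra hy
  obtain ⟨f, hf⟩ : ∃ f : M →+ W2 F, f (2 • y) ≠ 0 := by
    obtain ⟨ι, hι, nι, -, ⟨E⟩⟩ := AddCommGroup.equiv_directSum_zmod_of_finite' M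
    haveI := hι
    have hne : E (2 • y) ≠ 0 := fun hh => hy (E.injective (by rw [hh, map_zero]))
    obtain ⟨j, hj⟩ := DFunLike.ne_iff.1 hne
    rw [DirectSum.zero_apply] at hj
    -- the component has order four
    have h4' : ∀ t : ZMod (nι j), 4 • t = 0 := by
      intro t
      have := congrArg (fun z => (E z) j) (h4 (E.symm (DirectSum.of (fun i => ZMod (nι i)) j t)))
      simpa [map_nsmul, DirectSum.smul_apply] using this
    have hn : nι j = 4 := by
      have hd : nι j ∣ 4 := by
        have := h4' 1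
        rw [nsmul_eq_mul, mul_one] at this
        exact (ZMod.natCast_eq_zero_iff 4 _).1 this
      have h2 : ¬ nι j ∣ 2 := by
        intro hd2
        apply hj
        rw [map_nsmul, DirectSum.smul_apply, nsmul_eq_mul,
          (ZMod.natCast_eq_zero_iff 2 _).2 hd2, zero_mul]
      have aux : ∀ k : ℕ, k ∈ Nat.divisors 4 → ¬ k ∣ 2 → k = 4 := by decide
      exact aux _ (Nat.mem_divisors.2 ⟨hd, by norm_num⟩) h2
    let f0 : ZMod (nι j) →+ W2 F :=
      ZMod.lift (nι j) ⟨Int.castAddHom (W2 F), by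
        rw [hn]; simpa using four_eq (F := F)⟩
    refine ⟨f0.comp ((DFinsupp.evalAddMonoidHom j).comp E.toAddMonoidHom), fun hh => hj ?_⟩
    have hinj : Function.Injective f0 := by
      refine (ZMod.lift_injective _).2 fun z hz => ?_
      obtain ⟨d, hd⟩ | ⟨d, hd⟩ := Int.even_or_odd z
      · have hd2 : (Int.castAddHom (W2 F)) z = ((d : W2 F) * 2) := by
          rw [hd]; simp; ring
        rcases Int.even_or_odd d with ⟨d', hd'⟩ | ⟨d', hd'⟩
        · rw [hn, hd, hd']
          exact (ZMod.intCast_zmod_eq_zero_iff_dvd _ 4).2 ⟨d', by ring⟩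
        · exfalso
          have h2 : (2 : W2 F) = 0 := by
            have hz' : ((d : W2 F) * 2) = 0 := hd2 ▸ hz
            rw [hd'] at hz'
            push_cast at hz'
            linear_combination hz' - (d' : W2 F) * four_eq (F := F)
          rw [two_eq] at h2
          simpa using congrArg W2.snd h2
      · exfalso
        have h2 : (2 : W2 F) = 0 := by
          have hz' : ((z : ℤ) : W2 F) = 0 := hz
          rw [hd] at hz'
          push_cast at hz'
          linear_combination (2 : W2 F) * hz' - (d : W2 F) * four_eq (F := F)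
        rw [two_eq] at h2
        simpa using congrArg W2.snd h2
    exact hinj (by rw [map_zero]; exact hh)
  refine hf ?_
  have := DFunLike.congr_fun (witt_two_smul_eq_zero h hm σ hσ f) y
  rw [map_nsmul, two_nsmul]
  simpa [two_smul] using this

end Cfsg.Agent.Lib.SzModule
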