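import Cfsg.Agent.Lib.LieTwisted.SuzukiStructure
import Mathlib

/-!
# Tensor products of twisted natural modules of the Suzuki groups

For `e : Fin r → ℕ` the representation `tRep e` is the tensor product of the natural module twisted by
the field automorphisms `x ↦ x ^ 2 ^ e i`.  For injective `e` with fewer than `n` values below
`n = 2m+1` it is irreducible (`tRep_irreducible`): the vectors fixed modulo a line by the root group
are determined by induction, and the module is self-dual for the root group.
-/

set_option autoImplicit false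
set_option linter.unusedSectionVars false
set_option linter.style.haveILetI false

namespace Cfsg.Agent.Lib.SzModule

open Matrix Cfsg.Agent.Lib.LieTwisted.Suzuki

variable {F : Type*} [Field F] [Fintype F] {m : ℕ}

/-! ## Arithmetic of the field -/

section Field

variable (h : IsSzField F m)
include h

lemma pow_two_pow_mod (x : F) (i : ℕ) : x ^ 2 ^ i = x ^ 2 ^ (i % (2 * m + 1)) := by
  have hk : ∀ (k r : ℕ), x ^ 2 ^ ((2 * m + 1) * k + r) = x ^ 2 ^ r := by
    intro k
    induction k with
    | zero => intro r; simp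
    | succ k ih =>
      intro r
      rw [show (2 * m + 1) * (k + 1) + r = (2 * m + 1) + ((2 * m + 1) * k + r) by ring, pow_add,
        pow_mul, h.pow_card', ih]
  conv_lhs => rw [← Nat.div_add_mod i (2 * m + 1)]
  exact hk _ _

lemma sum_pow_two_pow {ι : Type*} (s : Finset ι) (f : ι → F) (i : ℕ) :
    (∑ j ∈ s, f j) ^ 2 ^ i = ∑ j ∈ s, f j ^ 2 ^ i := by
  haveI := h.charTwo
  haveI : Fact (Nat.Prime 2) := ⟨Nat.prime_two⟩
  exact sum_pow_char_pow 2 i s f

/-- Distinct Frobenius powers are linearly independent. -/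
lemma frob_independent {r : ℕ} (f : Fin r → ℕ) (hf : Function.Injective f)
    (hlt : ∀ i, f i < 2 * m + 1) (c : Fin r → F) (hc : ∀ a : F, ∑ i, c i * a ^ 2 ^ f i = 0) :
    c = 0 := by
  classical
  let P : Polynomial F := ∑ i, Polynomial.C (c i) * Polynomial.X ^ 2 ^ f i
  have hdeg : P.natDegree ≤ 2 ^ (2 * m) := by
    refine Polynomial.natDegree_sum_le_of_forall_le _ _ fun i _ => ?_
    refine (Polynomial.natDegree_C_mul_X_pow_le _ _).trans ?_
    exact Nat.pow_le_pow_right (by norm_num) (by have := hlt i; omega)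
  have hP : P = 0 := by
    refine Polynomial.eq_zero_of_natDegree_lt_card_of_eval_eq_zero' P Finset.univ (fun a _ => ?_) ?_
    · simpa [P, Polynomial.eval_finsetSum] using hc a
    · rw [Finset.card_univ, h.card]
      exact lt_of_le_of_lt hdeg (Nat.pow_lt_pow_right (by norm_num) (by omega))
  funext j
  have := congrArg (fun p => Polynomial.coeff p (2 ^ f j)) hP
  simpa [P, Polynomial.coeff_C_mul_X_pow, (Nat.pow_right_injective le_rfl).eq_iff, hf.eq_iff]
    using this

end Field

/-! ## The module -/

/-- The matrix of the tensor product of twisted natural modules. -/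
def tMat {r : ℕ} (e : Fin r → ℕ) (g : Cfsg.Sz F m) :
    Matrix (Fin r → Fin 4) (Fin r → Fin 4) F :=
  Matrix.of fun k l => ∏ i, mat g (k i) (l i) ^ 2 ^ e i

/-- The carrier. -/
abbrev TV (F : Type*) (r : ℕ) : Type _ := (Fin r → Fin 4) → F

variable (h : IsSzField F m) {r : ℕ} (e : Fin r → ℕ)

lemma tMat_mul (g g' : Cfsg.Sz F m) (h : IsSzField F m) :
    tMat e (g * g') = tMat e g * tMat e g' := by
  classical
  ext k l
  simp only [tMat, Matrix.mul_apply, Matrix.of_apply, mat_mul]
  rw [Finset.prod_congr rfl fun i _ => sum_pow_two_pow h Finset.univ _ (e i), Fintype.prod_sum]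
  exact Finset.sum_congr rfl fun j _ => by simp only [mul_pow, Finset.prod_mul_distrib]

lemma tMat_one : tMat e (1 : Cfsg.Sz F m) = 1 := by
  classical
  ext k l
  simp only [tMat, mat_one, Matrix.of_apply]
  by_cases hkl : k = l
  · subst hkl; simp
  · rw [Matrix.one_apply_ne hkl]
    obtain ⟨i, hi⟩ := Function.ne_iff.1 hkl
    refine Finset.prod_eq_zero (Finset.mem_univ i) ?_
    rw [Matrix.one_apply_ne hi, zero_pow (by positivity)]

/-- The tensor product of twisted natural modules. -/
noncomputable def tRep : Representation F (Cfsg.Sz F m) (TV F r) where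
  toFun g := Matrix.toLin' (tMat e g)
  map_one' := by rw [tMat_one, Matrix.toLin'_one]; rfl
  map_mul' g g' := by rw [tMat_mul e g g' h, Matrix.toLin'_mul]; rfl

lemma tRep_apply (g : Cfsg.Sz F m) (ξ : TV F r) (k : Fin r → Fin 4) :
    tRep h e g ξ k = ∑ l, (∏ i, mat g (k i) (l i) ^ 2 ^ e i) * ξ l := by
  simp [tRep, Matrix.toLin'_apply, Matrix.mulVec, dotProduct, tMat]

lemma tRep_single (g : Cfsg.Sz F m) (l k : Fin r → Fin 4) :
    tRep h e g (Pi.single l 1) k = ∏ i, mat g (k i) (l i) ^ 2 ^ e i := by
  classical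
  rw [tRep_apply, Finset.sum_eq_single l]
  · simp
  · intro j _ hj; simp [Pi.single_eq_of_ne hj]
  · simp

/-- The highest weight vector. -/
def top (F : Type*) [Field F] (r : ℕ) : TV F r := Pi.single (fun _ => 0) 1

/-- The lowest weight vector. -/
def bot (F : Type*) [Field F] (r : ℕ) : TV F r := Pi.single (fun _ => 3) 1

/-- The highest weight vector moved down once in the slot `i`. -/
def step (F : Type*) [Field F] {r : ℕ} (i : Fin r) : TV F r :=
  Pi.single (Function.update (fun _ => 0) i 1) 1

lemma utMat_col_zero (a b : F) (x : Fin 4) : utMat m a b x 0 = if x = 0 then 1 else 0 := by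
  fin_cases x <;> simp [utMat]

lemma utMat_col_one (a b : F) (x : Fin 4) :
    utMat m a b x 1 = if x = 0 then a else if x = 1 then 1 else 0 := by
  fin_cases x <;> simp [utMat]

lemma tRep_top (a b : F) : tRep h e (uS h a b) (top F r) = top F r := by
  classical
  funext k
  rw [top, tRep_single]
  by_cases hk : k = fun _ => 0
  · subst hk; simp [h.mat_uS, utMat_col_zero]
  · obtain ⟨i, hi⟩ := Function.ne_iff.1 hk
    rw [Pi.single_eq_of_ne hk, Finset.prod_eq_zero (Finset.mem_univ i)]
    simp [h.mat_uS, utMat_col_zero, hi]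

lemma tRep_step (a b : F) (i : Fin r) :
    tRep h e (uS h a b) (step F i) = step F i + a ^ 2 ^ e i • top F r := by
  classical
  funext k
  rw [step, tRep_single]
  simp only [Pi.add_apply, Pi.smul_apply, top, smul_eq_mul]
  have hcol : ∀ j, j ≠ i → k j ≠ 0 →
      ∏ j, mat (uS h a b) (k j) (Function.update (fun _ => (0 : Fin 4)) i 1 j) ^ 2 ^ e j = 0 := by
    intro j hj hkj
    refine Finset.prod_eq_zero (Finset.mem_univ j) ?_
    simp [h.mat_uS, Function.update_of_ne hj, utMat_col_zero, hkj]
  by_cases hbad : ∃ j, j ≠ i ∧ k j ≠ 0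
  · obtain ⟨j, hj, hkj⟩ := hbad
    rw [hcol j hj hkj, Pi.single_eq_of_ne, Pi.single_eq_of_ne]
    · simp
    · intro hk; exact hkj (by rw [hk])
    · intro hk; exact hkj (by rw [hk, Function.update_of_ne hj])
  · push Not at hbad
    rw [Finset.prod_eq_single i (fun j _ hj => by
      simp [h.mat_uS, Function.update_of_ne hj, utMat_col_zero, hbad j hj]) (by simp)]
    simp only [h.mat_uS, Function.update_self, utMat_col_one]
    have hk : k = Function.update (fun _ => (0 : Fin 4)) i (k i) := by
      funext j
      by_cases hj : j = i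
      · subst hj; simp
      · rw [Function.update_of_ne hj]; exact hbad j hj
    by_cases h0 : k i = 0
    · have hk0 : k = fun _ => (0 : Fin 4) := by rw [hk, h0]; simp
      have hne : (fun _ : Fin r => (0 : Fin 4)) ≠ Function.update (fun _ => (0 : Fin 4)) i 1 := by
        intro hh; have := congrFun hh i; simp at this
      rw [hk0]
      simp
    · have hk0 : k ≠ fun _ => (0 : Fin 4) := fun hh => h0 (by rw [hh])
      rw [if_neg h0, Pi.single_eq_of_ne hk0]
      by_cases h1 : k i = 1
      · rw [hk, h1]; simp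
      · have hne : k ≠ Function.update (fun _ => (0 : Fin 4)) i 1 := fun hh => h1 (by rw [hh]; simp)
        rw [if_neg h1, Pi.single_eq_of_ne hne]
        simp

/-! ## Splitting off a slot -/

/-- The component with value `x` in the slot `p`. -/
def slice {r : ℕ} (p : Fin (r + 1)) (x : Fin 4) : TV F (r + 1) →ₗ[F] TV F r where
  toFun ξ := fun l => ξ (Fin.insertNth p x l)
  map_add' _ _ := rfl
  map_smul' _ _ := rfl

@[simp] lemma slice_apply {r : ℕ} (p : Fin (r + 1)) (x : Fin 4) (ξ : TV F (r + 1))
    (l : Fin r → Fin 4) : slice p x ξ l = ξ (Fin.insertNth p x l) := rfl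

lemma slice_ext {r : ℕ} (p : Fin (r + 1)) {ξ η : TV F (r + 1)}
    (hs : ∀ x, slice p x ξ = slice p x η) : ξ = η := by
  funext k
  have := congrFun (hs (k p)) (p.removeNth k)
  simpa using this

lemma slice_tRep {r : ℕ} (e : Fin (r + 1) → ℕ) (p : Fin (r + 1)) (g : Cfsg.Sz F m) (x : Fin 4)
    (ξ : TV F (r + 1)) :
    slice p x (tRep h e g ξ) =
      ∑ y, mat g x y ^ 2 ^ e p • tRep h (p.removeNth e) g (slice p y ξ) := by
  classical
  funext l
  rw [Finset.sum_apply, slice_apply, tRep_apply]
  simp only [Pi.smul_apply, tRep_apply, slice_apply, smul_eq_mul, Finset.mul_sum]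
  rw [← Equiv.sum_comp (Fin.insertNthEquiv (fun _ => Fin 4) p), Fintype.sum_prod_type]
  refine Finset.sum_congr rfl fun y _ => Finset.sum_congr rfl fun l' _ => ?_
  rw [Fin.prod_univ_succAbove _ p]
  simp [Fin.insertNthEquiv, Fin.removeNth, mul_assoc]

lemma slice_top {r : ℕ} (p : Fin (r + 1)) (x : Fin 4) :
    slice p x (top F (r + 1)) = if x = 0 then top F r else 0 := by
  classical
  funext l
  by_cases hx : x = 0
  · subst hx
    simp only [slice_apply, top, if_true, Pi.single_apply]
    refine if_congr ?_ rfl rfl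
    constructor
    · intro hh; funext j; simpa using congrFun hh (p.succAbove j)
    · intro hh; subst hh; funext j; rcases Fin.eq_self_or_eq_succAbove p j with rfl | ⟨j, rfl⟩ <;> simp
  · rw [slice_apply, top, Pi.single_eq_of_ne, if_neg hx]
    · rfl
    · intro hh; exact hx (by simpa using congrFun hh p)

lemma slice_step_self {r : ℕ} (p : Fin (r + 1)) (x : Fin 4) :
    slice p x (step F p) = if x = 1 then top F r else 0 := by
  classical
  funext l
  by_cases hx : x = 1
  · subst hx
    simp only [slice_apply, step, top, if_true, Pi.single_apply]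
    refine if_congr ?_ rfl rfl
    constructor
    · intro hh; funext j
      simpa [Fin.succAbove_ne] using congrFun hh (p.succAbove j)
    · intro hh; subst hh; funext j
      rcases Fin.eq_self_or_eq_succAbove p j with rfl | ⟨j, rfl⟩ <;> simp [Fin.succAbove_ne]
  · rw [slice_apply, step, Pi.single_eq_of_ne, if_neg hx]
    · rfl
    · intro hh; exact hx (by simpa using congrFun hh p)

lemma slice_step {r : ℕ} (p : Fin (r + 1)) (q : Fin r) (x : Fin 4) :
    slice p x (step F (p.succAbove q)) = if x = 0 then step F q else 0 := by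
  classical
  have hne : p ≠ p.succAbove q := (Fin.succAbove_ne p q).symm
  funext l
  by_cases hx : x = 0
  · subst hx
    simp only [slice_apply, step, if_true, Pi.single_apply]
    refine if_congr ?_ rfl rfl
    constructor
    · intro hh; funext j
      have := congrFun hh (p.succAbove j)
      by_cases hj : j = q
      · subst hj; simpa using this
      · have hne' : p.succAbove j ≠ p.succAbove q := fun hh => hj (Fin.succAbove_right_injective hh)
        simpa [hj, hne'] using this
    · intro hh; subst hh; funext j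
      rcases Fin.eq_self_or_eq_succAbove p j with rfl | ⟨j, rfl⟩
      · simp [hne]
      · by_cases hj : j = q
        · subst hj; simp
        · have hne' : p.succAbove j ≠ p.succAbove q := fun hh => hj (Fin.succAbove_right_injective hh)
          simp [hj, hne']
  · rw [slice_apply, step, Pi.single_eq_of_ne, if_neg hx]
    · rfl
    · intro hh
      have := congrFun hh p
      simp [hne] at this
      exact hx this

include h in
/-- A slot whose `θ`-image is unused. -/
lemma exists_free_slot {r : ℕ} (e : Fin (r + 1) → ℕ) (hr : r + 1 < 2 * m + 1)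
    (hlt : ∀ i, e i < 2 * m + 1) :
    ∃ p, (e p + (m + 1)) % (2 * m + 1) ∉ Set.range e := by
  classical
  by_contra hno
  push Not at hno
  set n := 2 * m + 1 with hn
  let S : Finset ℕ := Finset.univ.image e
  have hstep : ∀ x ∈ S, (x + 1) % n ∈ S := by
    intro x hx
    obtain ⟨p, -, rfl⟩ := Finset.mem_image.1 hx
    obtain ⟨q, hq⟩ := hno p
    obtain ⟨q', hq'⟩ := hno q
    refine Finset.mem_image.2 ⟨q', Finset.mem_univ _, ?_⟩
    rw [hq', hq, Nat.mod_add_mod, show e p + (m + 1) + (m + 1) = e p + 1 + n by omega,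
      Nat.add_mod_right]
  have hall : ∀ k, (e 0 + k) % n ∈ S := by
    intro k
    induction k with
    | zero =>
      rw [Nat.add_zero, Nat.mod_eq_of_lt (hlt 0)]
      exact Finset.mem_image.2 ⟨0, Finset.mem_univ _, rfl⟩
    | succ k ih =>
      have := hstep _ ih
      rwa [Nat.mod_add_mod, add_assoc] at this
  have hsub : Finset.range n ⊆ S := by
    intro x hx
    rw [Finset.mem_range] at hx
    have h0 := hlt 0
    have := hall (x + n - e 0)
    rwa [show e 0 + (x + n - e 0) = x + n by omega, Nat.add_mod_right, Nat.mod_eq_of_lt hx] at this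
  have := (Finset.card_le_card hsub).trans Finset.card_image_le
  simp at this
  omega

include h in
/-- The vectors fixed modulo the line of `top` by the root group. -/
theorem almost_fixed : ∀ {r : ℕ} (e : Fin r → ℕ), r < 2 * m + 1 → Function.Injective e →
    (∀ i, e i < 2 * m + 1) → ∀ ξ : TV F r,
    (∀ a b : F, ∃ c : F, tRep h e (uS h a b) ξ = ξ + c • top F r) →
    ∃ (α : F) (β : Fin r → F), ξ = α • top F r + ∑ i, β i • step F i := by
  intro r
  induction r with
  | zero =>
    intro e _ _ _ ξ _
    refine ⟨ξ (fun _ => 0), 0, ?_⟩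
    funext k
    rw [show k = fun _ => 0 from funext fun i => i.elim0]
    simp [top]
  | succ r ih =>
    intro e hr hinj hlt ξ hξ
    classical
    obtain ⟨p, hp⟩ := exists_free_slot h e hr hlt
    set e' := p.removeNth e with he'
    have hinj' : Function.Injective e' := fun i j hij =>
      Fin.succAbove_right_injective (hinj hij)
    have hlt' : ∀ i, e' i < 2 * m + 1 := fun i => hlt _
    have IH := ih e' (by omega) hinj' hlt'
    -- the equations of the slots
    have key : ∀ a b x, ∃ c : F, ∑ y, utMat m a b x y ^ 2 ^ e p • tRep h e' (uS h a b) (slice p y ξ) =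
        slice p x ξ + if x = 0 then c • top F r else 0 := by
      intro a b x
      obtain ⟨c, hc⟩ := hξ a b
      refine ⟨c, ?_⟩
      have := congrArg (slice p x) hc
      rw [slice_tRep, map_add, map_smul, slice_top, smul_ite, smul_zero, h.mat_uS] at this
      exact this
    have hrow3 : ∀ a b, tRep h e' (uS h a b) (slice p 3 ξ) = slice p 3 ξ := by
      intro a b
      obtain ⟨c, hc⟩ := key a b 3
      simpa [Fin.sum_univ_four, utMat] using hc
    have indep : ∀ (d : F) (γ : Fin r → F) (x : ℕ), x < 2 * m + 1 → x ∉ Set.range e' →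
        (∀ a : F, d * a ^ 2 ^ x + ∑ q, γ q * a ^ 2 ^ e' q = 0) → d = 0 ∧ γ = 0 := by
      intro d γ x hx hxr hall
      have := frob_independent h (Fin.cons x e') (Fin.cons_injective_iff.2 ⟨hxr, hinj'⟩)
        (Fin.forall_fin_succ.2 ⟨by simpa using hx, fun i => by simpa using hlt' i⟩) (Fin.cons d γ)
        (fun a => by simpa [Fin.sum_univ_succ] using hall a)
      exact ⟨by simpa using congrFun this 0, funext fun i => by simpa using congrFun this i.succ⟩
    have coef : ∀ (α : F) (γ : Fin r → F) (a b : F),
        tRep h e' (uS h a b) (α • top F r + ∑ q, γ q • step F q) =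
          (α • top F r + ∑ q, γ q • step F q) + (∑ q, γ q * a ^ 2 ^ e' q) • top F r := by
      intro α γ a b
      simp only [map_add, map_smul, map_sum, tRep_top, tRep_step, smul_add, Finset.sum_add_distrib,
        smul_smul, ← Finset.sum_smul]
      abel
    have htop : top F r ≠ 0 := by
      intro h0; simpa [top] using congrFun h0 (fun _ => 0)
    have hep : e p ∉ Set.range e' := by
      rintro ⟨q, hq⟩
      exact Fin.succAbove_ne p q (hinj hq)
    -- the slot value `3`
    obtain ⟨δ, γ3, h3⟩ := IH (slice p 3 ξ) fun a b => ⟨0, by rw [hrow3 a b]; simp⟩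
    have hγ3 : γ3 = 0 := frob_independent h e' hinj' hlt' γ3 fun a => by
      have := hrow3 a 0
      rw [h3, coef] at this
      exact (smul_eq_zero.1 (add_eq_left.1 this)).resolve_right htop
    subst hγ3
    simp only [Pi.zero_apply, zero_smul, Finset.sum_const_zero, add_zero] at h3
    -- the slot value `2`
    have hrow2 : ∀ a b, tRep h e' (uS h a b) (slice p 2 ξ) =
        slice p 2 ξ + (-(δ * a ^ 2 ^ e p)) • top F r := by
      intro a b
      obtain ⟨c, hc⟩ := key a b 2
      simp only [Fin.sum_univ_four, h3, map_smul, tRep_top, smul_smul] at hc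
      simp [utMat] at hc
      rw [← eq_sub_iff_add_eq] at hc
      rw [hc, neg_smul, sub_eq_add_neg, mul_comm δ]
    obtain ⟨γ, γ2, h2⟩ := IH (slice p 2 ξ) fun a b => ⟨_, hrow2 a b⟩
    obtain ⟨hδ, hγ2⟩ := indep δ γ2 (e p) (hlt p) hep fun a => by
      have := hrow2 a 0
      rw [h2, coef, add_right_inj] at this
      have := smul_left_injective F htop this
      linear_combination this
    subst hγ2 hδ
    simp only [zero_smul] at h3
    simp only [Pi.zero_apply, zero_smul, Finset.sum_const_zero, add_zero] at h2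
    -- the slot value `1`
    have hrow1 : ∀ a b, tRep h e' (uS h a b) (slice p 1 ξ) =
        slice p 1 ξ + (-(γ * a ^ 2 ^ ((e p + (m + 1)) % (2 * m + 1)))) • top F r := by
      intro a b
      obtain ⟨c, hc⟩ := key a b 1
      simp only [Fin.sum_univ_four, h3, h2, map_smul, tRep_top, map_zero, smul_smul] at hc
      simp [utMat] at hc
      rw [← pow_two_pow_mod h, ← eq_sub_iff_add_eq.2 hc |>.symm]
      rw [hc.symm]
      simp only [sg, ← pow_mul, ← pow_add]
      rw [show m + 1 + e p = e p + (m + 1) by ring]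
      module
    obtain ⟨β, γ1, h1⟩ := IH (slice p 1 ξ) fun a b => ⟨_, hrow1 a b⟩
    obtain ⟨hγ, hγ1⟩ := indep γ γ1 _ (Nat.mod_lt _ (by omega))
      (by rintro ⟨q, hq⟩; exact hp ⟨_, hq⟩) fun a => by
      have := hrow1 a 0
      rw [h1, coef, add_right_inj] at this
      have := smul_left_injective F htop this
      linear_combination this
    subst hγ1 hγ
    simp only [zero_smul] at h2
    simp only [Pi.zero_apply, zero_smul, Finset.sum_const_zero, add_zero] at h1
    -- the slot value `0`
    obtain ⟨α, γ0, h0⟩ := IH (slice p 0 ξ) fun a b => by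
      obtain ⟨c, hc⟩ := key a b 0
      simp only [Fin.sum_univ_four, h3, h2, h1, map_smul, tRep_top, map_zero, smul_smul] at hc
      simp [utMat] at hc
      refine ⟨c - a ^ 2 ^ e p * β, ?_⟩
      rw [eq_sub_of_add_eq hc]
      module
    refine ⟨α, Fin.insertNth p β γ0, slice_ext p fun x => ?_⟩
    rw [map_add, map_smul, map_sum, Fin.sum_univ_succAbove _ p]
    simp only [Fin.insertNth_apply_same, Fin.insertNth_apply_succAbove, map_smul, slice_top,
      slice_step_self, slice_step]
    fin_cases x
    · simpa using h0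
    · simpa using h1
    · simpa using h2
    · simpa using h3

include h in
/-- The root group fixes only the line of `top`. -/
theorem fixed_eq (hr : r < 2 * m + 1) (he : Function.Injective e) (hlt : ∀ i, e i < 2 * m + 1)
    {ξ : TV F r} (hξ : ∀ a b, tRep h e (uS h a b) ξ = ξ) : ∃ α : F, ξ = α • top F r := by
  obtain ⟨α, β, hb⟩ := almost_fixed h e hr he hlt ξ fun a b => ⟨0, by rw [hξ a b]; simp⟩
  refine ⟨α, ?_⟩
  have htop : top F r ≠ 0 := fun h0 => by simpa [top] using congrFun h0 (fun _ => 0)
  have hβ : β = 0 := frob_independent h e he hlt β fun a => by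
    have h1 := hξ a 0
    rw [hb] at h1
    simp only [map_add, map_smul, map_sum, tRep_top, tRep_step, smul_add, Finset.sum_add_distrib,
      smul_smul, ← Finset.sum_smul] at h1
    rw [← add_assoc] at h1
    exact (smul_eq_zero.1 (add_eq_left.1 h1)).resolve_right htop
  simpa [hβ] using hb

/-! ## Self-duality for the root group, irreducibility -/

/-- The invariant form. -/
def pair (ξ η : TV F r) : F := ∑ k, ξ k * η (fun i => Fin.rev (k i))

lemma utMat_symp (a b : F) (l l' : Fin 4) (h : IsSzField F m) :
    ∑ x, utMat m a b x l * utMat m a b (Fin.rev x) l' = if l' = Fin.rev l then 1 else 0 := by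
  have t := h.two0
  fin_cases l <;> fin_cases l' <;>
    simp [utMat, zfun, Fin.sum_univ_four, Fin.rev] <;>
    (try ring_nf) <;> (try simp [t, h.four0])

lemma pair_of_symp (g : Cfsg.Sz F m) (hs : ∀ l l', ∑ x, mat g x l * mat g (Fin.rev x) l' =
    if l' = Fin.rev l then 1 else 0) (ξ η : TV F r) :
    pair (tRep h e g ξ) (tRep h e g η) = pair ξ η := by
  classical
  simp only [pair, tRep_apply, Finset.sum_mul_sum]
  rw [Finset.sum_comm]
  refine Finset.sum_congr rfl fun l _ => ?_
  rw [Finset.sum_comm, Finset.sum_eq_single (fun i => Fin.rev (l i))]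
  · have : ∑ k : Fin r → Fin 4, ((∏ i, mat g (k i) (l i) ^ 2 ^ e i) *
        ∏ i, mat g (Fin.rev (k i)) (Fin.rev (l i)) ^ 2 ^ e i) = 1 := by
      rw [← Finset.prod_const_one (s := (Finset.univ : Finset (Fin r)))]
      simp only [← Finset.prod_mul_distrib, ← mul_pow]
      rw [← Fintype.prod_sum fun i x =>
        (mat g x (l i) * mat g (Fin.rev x) (Fin.rev (l i))) ^ 2 ^ e i]
      refine Finset.prod_congr rfl fun i _ => ?_
      rw [← sum_pow_two_pow h, hs, if_pos rfl, one_pow]
    calc _ = (∑ k : Fin r → Fin 4, ((∏ i, mat g (k i) (l i) ^ 2 ^ e i) *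
        ∏ i, mat g (Fin.rev (k i)) (Fin.rev (l i)) ^ 2 ^ e i)) *
          (ξ l * η fun i => Fin.rev (l i)) := by
            rw [Finset.sum_mul]; exact Finset.sum_congr rfl fun k _ => by ring
      _ = _ := by rw [this, one_mul]
  · intro l' _ hl'
    have : ∑ k : Fin r → Fin 4, ((∏ i, mat g (k i) (l i) ^ 2 ^ e i) *
        ∏ i, mat g (Fin.rev (k i)) (l' i) ^ 2 ^ e i) = 0 := by
      simp only [← Finset.prod_mul_distrib, ← mul_pow]
      rw [← Fintype.prod_sum fun i x =>
        (mat g x (l i) * mat g (Fin.rev x) (l' i)) ^ 2 ^ e i]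
      obtain ⟨i, hi⟩ := Function.ne_iff.1 hl'
      refine Finset.prod_eq_zero (Finset.mem_univ i) ?_
      rw [← sum_pow_two_pow h, hs, if_neg hi, zero_pow (by positivity)]
    calc _ = (∑ k : Fin r → Fin 4, ((∏ i, mat g (k i) (l i) ^ 2 ^ e i) *
        ∏ i, mat g (Fin.rev (k i)) (l' i) ^ 2 ^ e i)) * (ξ l * η l') := by
            rw [Finset.sum_mul]; exact Finset.sum_congr rfl fun k _ => by ring
      _ = _ := by rw [this, zero_mul]
  · simp

lemma pair_uS (a b : F) (ξ η : TV F r) :
    pair (tRep h e (uS h a b) ξ) (tRep h e (uS h a b) η) = pair ξ η :=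
  pair_of_symp h e _ (fun l l' => by rw [h.mat_uS]; exact utMat_symp a b l l' h) ξ η

lemma pair_tRep (hm : 1 ≤ m) (g : Cfsg.Sz F m) (ξ η : TV F r) :
    pair (tRep h e g ξ) (tRep h e g η) = pair ξ η := by
  have hd : ∀ (u : Fˣ) (ξ η : TV F r),
      pair (tRep h e (dS h u) ξ) (tRep h e (dS h u) η) = pair ξ η := fun u =>
    pair_of_symp h e _ fun l l' => by
      have hu : (u : F) ≠ 0 := u.ne_zero
      have hs : sg m (u : F) ≠ 0 := mt sg_eq_zero.1 hu
      fin_cases l <;> fin_cases l' <;>
        simp [h.mat_dS, dgMat, Fin.sum_univ_four, Fin.rev] <;> field_simp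
  have hw : ∀ (ξ η : TV F r),
      pair (tRep h e (wS h) ξ) (tRep h e (wS h) η) = pair ξ η :=
    pair_of_symp h e _ fun l l' => by
      fin_cases l <;> fin_cases l' <;> simp [h.mat_wS, wMat, Fin.sum_univ_four, Fin.rev]
  obtain ⟨a, b, u, rfl | ⟨x, y, rfl⟩⟩ := h.bruhat hm g
  · simp only [map_mul, Module.End.mul_apply, pair_uS, hd]
  · simp only [map_mul, Module.End.mul_apply, pair_uS, hd, hw]

lemma pair_single (ξ : TV F r) (k : Fin r → Fin 4) :
    pair ξ (Pi.single k 1) = ξ (fun i => Fin.rev (k i)) := by
  classical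
  rw [pair, Finset.sum_eq_single (fun i => Fin.rev (k i))]
  · simp
  · intro j _ hj
    rw [Pi.single_eq_of_ne, mul_zero]
    intro hh; exact hj (by rw [← hh]; simp)
  · simp

include h in
/-- A nonzero invariant subspace for the root group contains `top`. -/
theorem top_mem_of_invariant (hr : r < 2 * m + 1) (he : Function.Injective e)
    (hlt : ∀ i, e i < 2 * m + 1) (Y : Submodule F (TV F r))
    (hY : ∀ a b, ∀ y ∈ Y, tRep h e (uS h a b) y ∈ Y) (hne : Y ≠ ⊥) : top F r ∈ Y := by
  classical
  haveI : Fact (Nat.Prime 2) := ⟨Nat.prime_two⟩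
  letI : MulAction (unip h) Y :=
    { smul := fun u y => ⟨tRep h e (u : Cfsg.Sz F m) y, by
        obtain ⟨g, a, b, hg⟩ := u
        subst hg; exact hY a b y y.2⟩
      one_smul := fun y => Subtype.ext (by show tRep h e (1 : Cfsg.Sz F m) _ = _; simp)
      mul_smul := fun u v y => Subtype.ext (by
        show tRep h e ((u : Cfsg.Sz F m) * v) _ = tRep h e _ (tRep h e _ _)
        rw [map_mul]; rfl) }
  have hU : IsPGroup 2 (unip h) :=
    IsPGroup.of_card (n := 2 * (2 * m + 1)) (by rw [h.card_unip, h.card, ← pow_mul, mul_comm])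
  have h2 : 2 ∣ Nat.card Y := by
    haveI : Nontrivial Y := Submodule.nontrivial_iff_ne_bot.2 hne
    rw [Nat.card_eq_fintype_card, Module.card_eq_pow_finrank (K := F), h.card, ← pow_mul]
    exact dvd_pow_self 2 (Nat.mul_ne_zero (by omega) (Module.finrank_pos).ne')
  have h0 : (0 : Y) ∈ MulAction.fixedPoints (unip h) Y := fun u => Subtype.ext (map_zero _)
  obtain ⟨y, hy, hy0⟩ := hU.exists_fixed_point_of_prime_dvd_card_of_fixed_point _ h2 h0
  obtain ⟨α, hα⟩ := fixed_eq h e hr he hlt (ξ := (y : TV F r)) fun a b =>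
    congrArg Subtype.val (hy ⟨uS h a b, h.uS_mem a b⟩)
  have hα0 : α ≠ 0 := fun hh => hy0 (Subtype.ext (by simp [hα, hh]))
  have := Y.smul_mem α⁻¹ y.2
  rwa [hα, smul_smul, inv_mul_cancel₀ hα0, one_smul] at this

include h in
/-- The root group orbit of `bot` spans. -/
theorem bot_cyclic (hr : r < 2 * m + 1) (he : Function.Injective e) (hlt : ∀ i, e i < 2 * m + 1)
    (Y : Submodule F (TV F r)) (hY : ∀ a b, ∀ y ∈ Y, tRep h e (uS h a b) y ∈ Y)
    (hb : bot F r ∈ Y) : Y = ⊤ := by
  classical
  by_contra hne
  obtain ⟨φ, hφ, hle⟩ := Submodule.exists_le_ker_of_lt_top Y (lt_top_iff_ne_top.2 hne)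
  let perp : Submodule F (TV F r) :=
    { carrier := {ξ | ∀ y ∈ Y, pair ξ y = 0}
      zero_mem' := fun y _ => by simp [pair]
      add_mem' := fun {ξ η} hξ hη y hy => by
        show pair _ _ = _
        simp only [pair, Pi.add_apply, add_mul, Finset.sum_add_distrib]
        rw [show ∑ k, ξ k * y (fun i => Fin.rev (k i)) = 0 from hξ y hy,
          show ∑ k, η k * y (fun i => Fin.rev (k i)) = 0 from hη y hy, add_zero]
      smul_mem' := fun c ξ hξ y hy => by
        show pair _ _ = _
        simp only [pair, Pi.smul_apply, smul_eq_mul, mul_assoc, ← Finset.mul_sum]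
        rw [show ∑ k, ξ k * y (fun i => Fin.rev (k i)) = 0 from hξ y hy, mul_zero] }
  let ξ : TV F r := fun k => φ (Pi.single (fun i => Fin.rev (k i)) 1)
  have hξ : ∀ η, pair ξ η = φ η := by
    intro η
    have hη : η = ∑ k, η k • (Pi.single k 1 : TV F r) := by
      funext j; simp [Finset.sum_apply, Pi.single_apply]
    conv_rhs => rw [hη]
    rw [map_sum, pair]
    refine Fintype.sum_bijective (fun (k : Fin r → Fin 4) i => Fin.rev (k i))
      (Function.Involutive.bijective fun k => by funext i; simp) _ _ fun k => ?_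
    simp [ξ, mul_comm]
  have hperp : perp ≠ ⊥ := by
    intro hb'
    have hmem : ξ ∈ perp := fun y hy => by rw [hξ]; exact LinearMap.mem_ker.1 (hle hy)
    rw [hb', Submodule.mem_bot] at hmem
    exact hφ (LinearMap.ext fun η => by rw [← hξ η, hmem]; simp [pair])
  have htop := top_mem_of_invariant h e hr he hlt perp (fun a b ξ hξ y hy => by
    have hy' := hY a (b + sg m a * a) y hy
    have hcancel : tRep h e (uS h a b) (tRep h e (uS h a (b + sg m a * a)) y) = y := by
      rw [← h.uS_inv, ← Module.End.mul_apply, ← map_mul, mul_inv_cancel, map_one]; rfl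
    rw [← hcancel, pair_uS]
    exact hξ _ hy') hperp
  have := htop _ hb
  rw [bot, pair_single] at this
  simp [top] at this

lemma tRep_wS_top : tRep h e (wS h) (top F r) = bot F r := by
  classical
  funext k
  rw [top, tRep_single]
  by_cases hk : k = fun _ => 3
  · subst hk; simp [h.mat_wS, wMat, bot]
  · obtain ⟨i, hi⟩ := Function.ne_iff.1 hk
    rw [bot, Pi.single_eq_of_ne hk, Finset.prod_eq_zero (Finset.mem_univ i)]
    rw [h.mat_wS]
    revert hi
    generalize k i = x
    intro hi
    fin_cases x <;> simp_all [wMat]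

include h in
/-- Irreducibility. -/
theorem tRep_irreducible (hr : r < 2 * m + 1) (he : Function.Injective e)
    (hlt : ∀ i, e i < 2 * m + 1) (Y : Submodule F (TV F r))
    (hY : ∀ g, ∀ y ∈ Y, tRep h e g y ∈ Y) (hne : Y ≠ ⊥) : Y = ⊤ := by
  refine bot_cyclic h e hr he hlt Y (fun a b => hY _) ?_
  rw [← tRep_wS_top h e]
  exact hY _ _ (top_mem_of_invariant h e hr he hlt Y (fun a b => hY _) hne)

end Cfsg.Agent.Lib.SzModule
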